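import Cfsg.Agent.Lib.StrongEmbDim.Number
import Cfsg.Agent.Lib.BinaryCoset.Families
import Cfsg.Agent.Lib.NonSplitTorus
import Cfsg.Agent.Lib.Suzuki.Sylow
import Cfsg.Agent.Lib.Suzuki.Torus
import Cfsg.Agent.Lib.Suzuki.Lie
import Cfsg.Agent.Lib.PrimeGraphExt

/-! The data of the three families needed for the dimension bounds. -/

set_option autoImplicit false
set_option linter.unusedSectionVars false
set_option linter.style.haveILetI false

namespace CfsgLib.StrongEmbDim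

universe u v

/-- Sylow order, exponent-two bound, an element of large order and a real element. -/
structure Data (L : Type u) [Group L] (n k : ℕ) : Prop where
  card_sylow : ∀ P : Sylow 2 L, Nat.card P = 2 ^ k
  card_sq : ∀ P : Sylow 2 L, Nat.card {x : P // x * x = 1} ≤ 2 ^ n
  big : ∃ (x : L) (r j : ℕ), r.Prime ∧ Odd r ∧ 0 < j ∧ orderOf x = r ^ j ∧ Forces (r ^ j) (2 * k)
  real : ∃ (z y : L) (r j : ℕ), z ≠ 1 ∧ z * z = 1 ∧ z * y * z = y⁻¹ ∧ r.Prime ∧ Odd r ∧ 0 < j ∧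
    orderOf y = r ^ j ∧ ∀ l : ℕ, r ^ j ∣ 2 ^ (2 * l) - 1 → n ∣ l

theorem Data.of_equiv {L : Type u} {L' : Type v} [Group L] [Finite L] [Group L'] [Finite L'] {n k : ℕ}
    (e : L ≃* L') (h : Data L' n k) : Data L n k := by
  haveI : Fact (Nat.Prime 2) := ⟨Nat.prime_two⟩
  obtain ⟨P'⟩ : Nonempty (Sylow 2 L') := inferInstance
  refine ⟨fun P => ?_, fun P => ?_, ?_, ?_⟩
  · rw [(CfsgLib.BinaryCoset.card_sq_one_sylow e P P').1]; exact h.card_sylow P'
  · rw [(CfsgLib.BinaryCoset.card_sq_one_sylow e P P').2]; exact h.card_sq P'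
  · obtain ⟨x, r, j, hr, hro, hj, hx, hF⟩ := h.big
    exact ⟨e.symm x, r, j, hr, hro, hj, (e.symm.orderOf_eq x).trans hx, hF⟩
  · obtain ⟨z, y, r, j, hz1, hz2, hinv, hr, hro, hj, hy, hF⟩ := h.real
    refine ⟨e.symm z, e.symm y, r, j, ?_, ?_, ?_, hr, hro, hj, (e.symm.orderOf_eq y).trans hy, hF⟩
    · exact fun h1 => hz1 (e.symm.map_eq_one_iff.mp h1)
    · rw [← map_mul, hz2, map_one]
    · rw [← map_mul, ← map_mul, hinv, map_inv]

theorem orderOf_pow_div {H : Type*} [Group H] [Finite H] {g : H} {e : ℕ} (h : e ∣ orderOf g) :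
    orderOf (g ^ (orderOf g / e)) = e := by
  obtain ⟨c, hc⟩ := h
  have hpos := orderOf_pos g
  have he : 0 < e := Nat.pos_of_ne_zero fun h0 => by rw [hc, h0, zero_mul] at hpos; exact lt_irrefl 0 hpos
  have hc0 : 0 < c := Nat.pos_of_ne_zero fun h0 => by rw [hc, h0, mul_zero] at hpos; exact lt_irrefl 0 hpos
  rw [hc, Nat.mul_div_cancel_left c he, orderOf_pow' _ hc0.ne', hc, Nat.gcd_eq_right (dvd_mul_left c e),
    Nat.mul_div_cancel _ hc0]

theorem conj_pow_inv {H : Type*} [Group H] {z y : H} (hz : z * z = 1) (h : z * y * z = y⁻¹) (i : ℕ) :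
    z * y ^ i * z = (y ^ i)⁻¹ := by
  have hzi : z⁻¹ = z := inv_eq_of_mul_eq_one_right hz
  have := conj_pow (i := i) (a := z) (b := y)
  rw [hzi, h, inv_pow] at this
  exact this.symm

section SL

variable {F : Type} [Field F] [Fintype F] [CharP F 2]

theorem exists_real_sl {n : ℕ} (hn : 2 ≤ n) (hF : Fintype.card F = 2 ^ n) :
    ∃ (z y : Matrix.SpecialLinearGroup (Fin 2) F) (r j : ℕ), z ≠ 1 ∧ z * z = 1 ∧ z * y * z = y⁻¹ ∧ r.Prime ∧
      Odd r ∧ 0 < j ∧ orderOf y = r ^ j ∧ Forces (r ^ j) (2 * n) := by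
  haveI : Fact (Nat.Prime 2) := ⟨Nat.prime_two⟩
  obtain ⟨g, hg⟩ := CfsgLib.NonSplitTorus.exists_orderOf_card_add_one (F := F) 2
  obtain ⟨r, j, hr, hj, hd, hFo⟩ := exists_forces_pow hn
  have h2 : (2 : F) = 0 := CharTwo.two_eq_zero
  have h4 : 4 ≤ 2 ^ n := by simpa using Nat.pow_le_pow_right two_pos hn
  rw [hF] at hg
  suffices h : ∃ z : Matrix.SpecialLinearGroup (Fin 2) F, z ≠ 1 ∧ z * z = 1 ∧ z * g * z = g⁻¹ by
    obtain ⟨z, hz1, hz2, hinv⟩ := h
    exact ⟨z, g ^ (orderOf g / r ^ j), r, j, hz1, hz2, conj_pow_inv hz2 hinv _, hr,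
      odd_of_dvd_succ (by omega) ((dvd_pow_self r hj.ne').trans hd), hj, orderOf_pow_div (hg ▸ hd), hFo⟩
  have htr : g.1 0 0 + g.1 1 1 ≠ 0 := by
    intro h
    have hdet := Dickson.det_eq g
    have hgg : g * g = 1 := by
      apply Dickson.ext_entries <;> simp only [Dickson.mul_entry] <;> simp
      · linear_combination g.1 0 0 * h - hdet + (-1 : F) * h2
      · linear_combination g.1 0 1 * h
      · linear_combination g.1 1 0 * h
      · linear_combination g.1 1 1 * h - hdet + (-1 : F) * h2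
    have := Nat.le_of_dvd two_pos (hg ▸ orderOf_dvd_of_pow_eq_one (show g ^ 2 = 1 by rw [pow_two, hgg]))
    omega
  have hoff : g.1 1 0 ≠ 0 ∨ g.1 0 1 ≠ 0 := by
    by_contra h
    push Not at h
    have hdet := Dickson.det_eq g
    rw [h.1, h.2, mul_zero, sub_zero] at hdet
    have ha : g.1 0 0 ≠ 0 := left_ne_zero_of_mul_eq_one hdet
    have hb : g.1 1 1 ≠ 0 := right_ne_zero_of_mul_eq_one hdet
    have hp : ∀ i, (g ^ i).1 0 0 = g.1 0 0 ^ i ∧ (g ^ i).1 0 1 = 0 ∧ (g ^ i).1 1 0 = 0 ∧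
        (g ^ i).1 1 1 = g.1 1 1 ^ i := by
      intro i
      induction i with
      | zero => simp
      | succ i ih =>
        rw [pow_succ, pow_succ, pow_succ]
        simp only [Dickson.mul_entry, ih.1, ih.2.1, ih.2.2.1, ih.2.2.2, h.1, h.2]
        simp
    have hq : g ^ (2 ^ n - 1) = 1 := by
      obtain ⟨e1, e2, e3, e4⟩ := hp (2 ^ n - 1)
      rw [← hF] at e1 e4 ⊢
      rw [FiniteField.pow_card_sub_one_eq_one _ ha] at e1
      rw [FiniteField.pow_card_sub_one_eq_one _ hb] at e4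
      apply Dickson.ext_entries
      · rw [e1]; simp
      · rw [hF, e2]; simp
      · rw [hF, e3]; simp
      · rw [e4]; simp
    have := Nat.le_of_dvd (by omega) (hg ▸ orderOf_dvd_of_pow_eq_one hq)
    omega
  have hdet := Dickson.det_eq g
  have hinvE : ∀ w : Matrix.SpecialLinearGroup (Fin 2) F, w * w = 1 → g * w * (g * w) = 1 → w * g * w = g⁻¹ :=
    fun w _ h => by
      rw [eq_inv_iff_mul_eq_one, mul_assoc, mul_assoc]
      calc w * (g * (w * g)) = g⁻¹ * (g * w * (g * w)) * g := by group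
        _ = 1 := by rw [h]; group
  rcases hoff with h | h
  · refine ⟨CfsgLib.Dickson.up ((g.1 0 0 + g.1 1 1) / g.1 1 0), fun e => ?_, ?_, ?_⟩
    · have := congrArg (fun m : Matrix.SpecialLinearGroup (Fin 2) F => m.1 0 1) e
      simp [h, htr] at this
    · rw [CfsgLib.Dickson.up_mul, CharTwo.add_self_eq_zero, CfsgLib.Dickson.up_zero]
    · refine hinvE _ (by rw [CfsgLib.Dickson.up_mul, CharTwo.add_self_eq_zero, CfsgLib.Dickson.up_zero]) ?_
      apply Dickson.ext_entries <;> simp [Dickson.mul_entry] <;> field_simp <;> grind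
  · obtain ⟨w, hw⟩ : ∃ w : Matrix.SpecialLinearGroup (Fin 2) F,
        w.1 = !![1, 0; (g.1 0 0 + g.1 1 1) / g.1 0 1, 1] := ⟨⟨_, by simp [Matrix.det_fin_two]⟩, rfl⟩
    have hw2 : w * w = 1 := by
      apply Dickson.ext_entries <;> simp [Dickson.mul_entry, hw, CharTwo.add_self_eq_zero]
    refine ⟨w, fun e => ?_, hw2, hinvE w hw2 ?_⟩
    · have := congrArg (fun m : Matrix.SpecialLinearGroup (Fin 2) F => m.1 1 0) e
      simp [hw, h, htr] at this
    · apply Dickson.ext_entries <;> simp [Dickson.mul_entry, hw] <;> field_simp <;> grind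

theorem data_sl {n : ℕ} (hn : 2 ≤ n) (hF : Fintype.card F = 2 ^ n) :
    Data (Matrix.SpecialLinearGroup (Fin 2) F) n n := by
  have hG : Nat.card (Matrix.SpecialLinearGroup (Fin 2) F) = 2 ^ n * ((2 ^ n) ^ 2 - 1) := by
    rw [SLCard.card_SL_two, hF]
  have hodd : Odd ((2 ^ n) ^ 2 - 1) :=
    Nat.Even.sub_odd (Nat.one_le_pow _ _ (by positivity)) (Nat.even_pow.mpr ⟨Nat.even_pow.mpr ⟨even_two, by omega⟩, two_ne_zero⟩) odd_one
  have hS := CfsgLib.BinaryCoset.card_sylow_two hG hodd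
  obtain ⟨z, y, r, j, hz1, hz2, hinv, hr, hro, hj, hy, hFo⟩ := exists_real_sl hn hF
  refine ⟨hS, fun P => ?_, ⟨y, r, j, hr, hro, hj, hy, hFo⟩,
    ⟨z, y, r, j, hz1, hz2, hinv, hr, hro, hj, hy, fun l hl => ?_⟩⟩
  · exact (Finite.card_subtype_le _).trans (hS P).le
  · exact Nat.dvd_of_mul_dvd_mul_left two_pos (hFo _ hl)

end SL

theorem data_psl {F : Type} [Field F] [Fintype F] {n : ℕ} (hn : 2 ≤ n) (hF : Fintype.card F = 2 ^ n) :
    Data (Matrix.ProjectiveSpecialLinearGroup (Fin 2) F) n n := by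
  haveI := CfsgLib.BinaryCoset.charP_two hF
  exact (data_sl hn hF).of_equiv PrimeGraphExt.pslEquiv

theorem data_sz {F : Type} [Field F] [Fintype F] {m : ℕ} (hm : 1 ≤ m) (hF : Fintype.card F = 2 ^ (2 * m + 1)) :
    Data ↥(Cfsg.Lie.Sz F (2 ^ (m + 1))) (2 * m + 1) (2 * (2 * m + 1)) := by
  refine Data.of_equiv (CfsgLib.Suzuki.lieEquiv hF hm).symm ?_
  haveI : Fact (Nat.Prime 2) := ⟨Nat.prime_two⟩
  refine ⟨fun P => ?_, fun P => ?_, ?_, ?_⟩
  · rw [(CfsgLib.Suzuki.sylow_structure hF hm P).1, ← pow_mul, mul_comm]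
  · obtain ⟨e⟩ := CfsgLib.Suzuki.sylow_equiv_U hF hm P
    let f : {x : P // x * x = 1} → {x : CfsgLib.Suzuki.U hF // x * x = 1} :=
      fun x => ⟨e x.1, by rw [← map_mul, x.2, map_one]⟩
    refine (Nat.card_le_card_of_injective f fun a b h =>
      Subtype.ext (e.injective (congrArg Subtype.val h))).trans ?_
    have hsurj : ∀ x : {x : CfsgLib.Suzuki.U hF // x * x = 1}, ∃ b : F, (x.1 : ↥(Cfsg.Sz F m)) = CfsgLib.Suzuki.uS hF 0 b := by
      rintro ⟨⟨g, a, b, hg⟩, hx⟩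
      subst hg
      refine ⟨b, ?_⟩
      have h1 := congrArg Subtype.val hx
      change CfsgLib.Suzuki.uS hF a b * CfsgLib.Suzuki.uS hF a b = 1 at h1
      rw [CfsgLib.Suzuki.uS_mul, ← CfsgLib.Suzuki.uS_zero hF] at h1
      have h2 := CfsgLib.Suzuki.two_eq_zero hF
      have ha : a = 0 := by
        have e2 := (CfsgLib.Suzuki.uS_inj hF h1).2
        have e3 : CfsgLib.Suzuki.th m a * a = 0 := by linear_combination e2 - b * h2
        rcases mul_eq_zero.mp e3 with h | h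
        · exact (pow_eq_zero_iff (by positivity)).mp h
        · exact h
      subst ha
      rfl
    choose g hg using hsurj
    rw [← hF, ← Nat.card_eq_fintype_card]
    exact Nat.card_le_card_of_injective g fun a b h => Subtype.ext (Subtype.ext (by rw [hg a, hg b, h]))
  · obtain ⟨r, hr, hd, hFo⟩ := exists_forces_succ (f := 2 * (2 * m + 1)) (by omega) (by omega)
    haveI := Fact.mk hr
    obtain ⟨x, hx⟩ := exists_prime_orderOf_dvd_card' (G := ↥(Cfsg.Sz F m)) r (by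
      rw [CfsgLib.Suzuki.card_Sz hF hm]
      refine Dvd.dvd.mul_right (Dvd.dvd.mul_left ?_ _) _
      rwa [← pow_mul, mul_comm (2 * m + 1) 2])
    exact ⟨x, r, 1, hr, odd_of_dvd_succ (by omega) hd, one_pos, by rw [pow_one]; exact hx,
      by rw [pow_one]; exact hFo⟩
  · obtain ⟨r, hr, hd, hFo⟩ := exists_forces (m := 2 * m + 1) (by omega) (by omega)
    haveI := Fact.mk hr
    obtain ⟨⟨y, t, rfl⟩, ht⟩ := exists_prime_orderOf_dvd_card' (G := CfsgLib.Suzuki.T hF) r (by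
      rw [CfsgLib.Suzuki.card_T hF]; exact hd)
    rw [← Subgroup.orderOf_coe] at ht
    refine ⟨CfsgLib.Suzuki.wS hF, CfsgLib.Suzuki.dS hF t, r, 1, fun h => ?_, CfsgLib.Suzuki.wS_mul_self hF, ?_, hr,
      odd_pow_sub_one (by omega) hd, one_pos, by rw [pow_one]; exact ht, fun l hl => ?_⟩
    · have := CfsgLib.Suzuki.smul_wS_inf hF
      rw [h, one_smul] at this
      exact CfsgLib.Suzuki.pt_ne_inf (m := m) (0 : F) 0 (by rw [CfsgLib.Suzuki.pt_zero]; exact this.symm)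
    · rw [CfsgLib.Suzuki.wS_dS, CfsgLib.Suzuki.dS_inv]
    · rw [pow_one] at hl
      exact (Nat.Coprime.dvd_mul_left (by
        rw [Nat.coprime_two_right]; exact odd_two_mul_add_one m)).mp (hFo _ hl)

theorem data_psu {K : Type} [Field K] [Fintype K] {n : ℕ} (hn : 2 ≤ n) (hK : Fintype.card K = (2 ^ n) ^ 2) :
    Data (Cfsg.PSU 3 K (2 ^ n)) n (3 * n) := by
  haveI : Fact (Nat.Prime 2) := ⟨Nat.prime_two⟩
  obtain ⟨-, c, hchar, hq, ⟨E⟩⟩ := CfsgLib.BinaryCoset.ti_psu hn hK (MulEquiv.refl _)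
  haveI := hchar
  refine Data.of_equiv E ?_
  have h4 : 4 ≤ c.q := hq ▸ (show (4 : ℕ) = 2 ^ 2 by norm_num) ▸ Nat.pow_le_pow_right (by norm_num) hn
  obtain ⟨Ω', iA, iF, a, t, Q, hS, hfour, hQ, -, -, hQc, hqZ, -⟩ := CfsgLib.SuzukiRankOne.exists_model c h4
  letI := iA
  haveI := iF
  haveI := CfsgLib.RankOne.finite_points hS
  obtain ⟨P₀, hP₀⟩ := CfsgLib.RankOne.exists_sylow_le hS
  have hPQ : (P₀ : Subgroup _) = Q := (P₀.is_maximal' hQ hP₀).symm
  have hcard : ∀ P : Sylow 2 (CfsgLib.PSUBorel.SUs c 3 ⧸ Subgroup.center (CfsgLib.PSUBorel.SUs c 3)),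
      Nat.card P = 2 ^ (3 * n) ∧ Nat.card {x : P // x * x = 1} ≤ 2 ^ n := by
    intro P
    obtain ⟨h1, h2⟩ := CfsgLib.BinaryCoset.card_sq_one_sylow (MulEquiv.refl _) P P₀
    have hQP : Nat.card P₀ = Nat.card Q := Nat.card_congr (Equiv.setCongr (congrArg (·.carrier) hPQ))
    have hsq : Nat.card {x : P₀ // x * x = 1} ≤ Nat.card {x : Q // x * x = 1} := by
      refine Nat.card_le_card_of_injective
        (fun x => ⟨⟨x.1, hPQ ▸ x.1.2⟩, Subtype.ext (congrArg Subtype.val x.2 :)⟩) fun x y h => ?_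
      exact Subtype.ext (Subtype.ext (congrArg (fun w : {x : Q // x * x = 1} => ((w.1 : Q) : CfsgLib.PSUBorel.SUs c 3 ⧸ Subgroup.center (CfsgLib.PSUBorel.SUs c 3))) h :))
    rw [CfsgLib.SuzukiRankOne.card_sq_one hS, hqZ, hq] at hsq
    exact ⟨by rw [h1, hQP, hQc, hqZ, hq, ← pow_mul, mul_comm], h2.trans_le hsq⟩
  refine ⟨fun P => (hcard P).1, fun P => (hcard P).2, ?_, ?_⟩
  · obtain ⟨r, hr, hd, hFo⟩ := exists_forces_succ (f := 3 * n) (by omega) (by omega)
    haveI := Fact.mk hr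
    obtain ⟨x, hx⟩ := exists_prime_orderOf_dvd_card'
      (G := CfsgLib.PSUBorel.SUs c 3 ⧸ Subgroup.center (CfsgLib.PSUBorel.SUs c 3)) r (by
        rw [CfsgLib.RankOne.card_group hS, hQc, hqZ, hq, ← pow_mul, mul_comm n 3]
        exact Dvd.dvd.mul_left hd _)
    exact ⟨x, r, 1, hr, odd_of_dvd_succ (by omega) hd, one_pos, by rw [pow_one]; exact hx,
      by rw [pow_one]; exact hFo⟩
  · have hb0 : c.σ (1 : K) = -1 := by rw [map_one, CharTwo.neg_eq]
    haveI : CharP (CfsgLib.PSU3Min.Fix c) 2 :=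
      (CfsgLib.PSU3Min.Fix c).subtype.charP Subtype.val_injective 2
    haveI : Fintype (CfsgLib.PSU3Min.Fix c) := Fintype.ofFinite _
    have hcF : Fintype.card (CfsgLib.PSU3Min.Fix c) = 2 ^ n := by
      rw [← Nat.card_eq_fintype_card, CfsgLib.PSU3Min.card_Fix c one_ne_zero hb0, hq]
    let φ := (CfsgLib.BinaryCoset.proj c).comp (CfsgLib.PSU3Min.emb2 c (one_ne_zero : (1 : K) ≠ 0) hb0)
    have hφ : Function.Injective φ := (injective_iff_map_eq_one φ).mpr fun g hg => by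
      have hcen := (CfsgLib.BinaryCoset.proj_eq_one c).mp hg
      have hgc : g ∈ Subgroup.center (Matrix.SpecialLinearGroup (Fin 2) (CfsgLib.PSU3Min.Fix c)) :=
        Subgroup.mem_center_iff.mpr fun h => CfsgLib.PSU3Min.emb2_inj c one_ne_zero hb0 (by
          rw [map_mul, map_mul]
          exact Subgroup.mem_center_iff.mp hcen _)
      rwa [PrimeGraphExt.center_eq_bot, Subgroup.mem_bot] at hgc
    obtain ⟨z, y, r, j, hz1, hz2, hinv, hr, hro, hj, hy, hFo⟩ := exists_real_sl hn hcF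
    refine ⟨φ z, φ y, r, j, fun h => hz1 (hφ (h.trans (map_one φ).symm)), by rw [← map_mul, hz2, map_one],
      by rw [← map_mul, ← map_mul, hinv, map_inv], hr, hro, hj, by rw [orderOf_injective φ hφ, hy],
      fun l hl => Nat.dvd_of_mul_dvd_mul_left two_pos (hFo _ hl)⟩

end CfsgLib.StrongEmbDim
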