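import Mathlib

/-! A semiregular group of operators on an abelian group of odd order needs as many dimensions as its order. -/

set_option autoImplicit false
set_option linter.unusedSectionVars false
set_option linter.style.haveILetI false
set_option synthInstance.maxHeartbeats 100000

namespace CfsgLib.StrongEmbDim

open Module

variable {V : Type*} [AddCommGroup V] [Module (ZMod 2) V] [Module.Finite (ZMod 2) V]

/-- A commutative algebra of maps in which every element is fixed by a Frobenius power embeds in the space. -/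
theorem finrank_adjoin_le (A : Subalgebra (ZMod 2) (Module.End (ZMod 2) V))
    (hc : ∀ a ∈ A, ∀ b ∈ A, a * b = b * a) {M : ℕ} (hM : 0 < M) (hfix : ∀ a ∈ A, a ^ (M + 1) = a) :
    finrank (ZMod 2) A ≤ finrank (ZMod 2) V := by
  classical
  haveI : Finite V := Module.finite_of_finite (ZMod 2)
  haveI : Finite (Module.End (ZMod 2) V) :=
    Finite.of_injective (fun f : Module.End (ZMod 2) V => (f : V → V)) DFunLike.coe_injective
  let ann : V → Set A := fun v => {a | (a : Module.End (ZMod 2) V) v = 0}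
  obtain ⟨v, -, hv⟩ := Set.Finite.exists_minimalFor (fun v : V => (ann v).ncard) Set.univ (Set.toFinite _)
    ⟨0, Set.mem_univ _⟩
  have hinj : ∀ a : A, (a : Module.End (ZMod 2) V) v = 0 → a = 0 := by
    intro a ha
    by_contra hne
    set e : Module.End (ZMod 2) V := (a : Module.End (ZMod 2) V) ^ M with he
    have heA : e ∈ A := A.pow_mem a.2 M
    have hea : e * (a : Module.End (ZMod 2) V) = a := by rw [he, ← pow_succ]; exact hfix a a.2
    have hee : e * e = e := by
      obtain ⟨M, rfl⟩ := Nat.exists_eq_succ_of_ne_zero hM.ne'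
      conv_lhs => arg 2; rw [he, pow_succ' _ M]
      rw [← mul_assoc, hea, ← pow_succ', he]
    have hev : e v = 0 := by
      obtain ⟨M, rfl⟩ := Nat.exists_eq_succ_of_ne_zero hM.ne'
      rw [he, pow_succ, Module.End.mul_apply, ha, map_zero]
    obtain ⟨w, hw⟩ : ∃ w, e w ≠ 0 := by
      by_contra h
      push Not at h
      refine hne (Subtype.ext ?_)
      rw [← hea, show e = 0 from LinearMap.ext h, zero_mul]
      rfl
    have hsub : ann (v + e w) ⊂ ann v := by
      have key : ∀ b : A, b ∈ ann (v + e w) → b ∈ ann v := by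
        intro b hb
        change (b : Module.End (ZMod 2) V) (v + e w) = 0 at hb
        have hbe := hc b b.2 e heA
        have h1 : e ((b : Module.End (ZMod 2) V) v) = 0 := by
          rw [← Module.End.mul_apply, ← hbe, Module.End.mul_apply, hev, map_zero]
        have h2 : e ((b : Module.End (ZMod 2) V) (e w)) = (b : Module.End (ZMod 2) V) (e w) := by
          rw [← Module.End.mul_apply, ← hbe, Module.End.mul_apply, ← Module.End.mul_apply e e, hee]
        have h3 := congrArg e hb
        rw [map_add, map_add, h1, zero_add, h2, map_zero] at h3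
        rwa [map_add, h3, add_zero] at hb
      refine ⟨key, fun h => hw ?_⟩
      have h4 : (⟨e, heA⟩ : A) ∈ ann (v + e w) := h hev
      change e (v + e w) = 0 at h4
      rwa [map_add, hev, zero_add, ← Module.End.mul_apply, hee] at h4
    have hlt := Set.ncard_lt_ncard hsub (Set.toFinite _)
    exact absurd (hv (Set.mem_univ (v + e w)) hlt.le) (not_le.mpr hlt)
  let f : A →ₗ[ZMod 2] V := (LinearMap.applyₗ v).comp A.val.toLinearMap
  exact LinearMap.finrank_le_finrank_of_injective (f := f)
    ((injective_iff_map_eq_zero f).mpr fun a ha => hinj a ha)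

variable {G : Type*} [Group G] [Finite G] (ρ : Representation (ZMod 2) G V)

theorem card_le_finrank (hρ : Function.Injective ρ) (E S : Subgroup G)
    (hc : ∀ a ∈ E, ∀ b ∈ E, a * b = b * a) (hodd : Odd (Nat.card E))
    (hnorm : ∀ s ∈ S, ∀ e ∈ E, s * e * s⁻¹ ∈ E)
    (hfree : ∀ s ∈ S, s ≠ 1 → ∀ e ∈ E, s * e * s⁻¹ = e → e = 1) (hE : E ≠ ⊥) :
    Nat.card S ≤ finrank (ZMod 2) V := by
  classical
  haveI : Finite V := Module.finite_of_finite (ZMod 2)
  haveI : Finite (Module.End (ZMod 2) V) :=
    Finite.of_injective (fun f : Module.End (ZMod 2) V => (f : V → V)) DFunLike.coe_injective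
  let A : Subalgebra (ZMod 2) (Module.End (ZMod 2) V) := Algebra.adjoin (ZMod 2) (ρ '' (E : Set G))
  have hgenA : ∀ e ∈ E, ρ e ∈ A := fun e he => Algebra.subset_adjoin ⟨e, he, rfl⟩
  have hcomm : ∀ a ∈ A, ∀ b ∈ A, a * b = b * a := by
    intro a ha b hb
    refine (Algebra.commute_of_mem_adjoin_of_forall_mem_commute hb fun x hx => ?_).eq
    refine (Algebra.commute_of_mem_adjoin_of_forall_mem_commute ha fun y hy => ?_).symm
    obtain ⟨e, he, rfl⟩ := hx
    obtain ⟨e', he', rfl⟩ := hy
    show ρ e * ρ e' = ρ e' * ρ e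
    rw [← map_mul, ← map_mul, hc e he e' he']
  -- the Frobenius power fixing everything
  set N := (Nat.card E).totient with hN
  have hNpos : 0 < N := Nat.totient_pos.mpr Nat.card_pos
  obtain ⟨M, hM⟩ := Nat.exists_eq_add_of_le (Nat.one_le_two_pow (n := N))
  have hM' : M + 1 = 2 ^ N := by omega
  have hMpos : 0 < M := by
    have : 2 ≤ 2 ^ N := by simpa using Nat.pow_le_pow_right two_pos (show 1 ≤ N from hNpos)
    omega
  have hfixA : ∀ a ∈ A, a ^ (M + 1) = a := by
    intro a ha
    rw [hM']
    induction ha using Algebra.adjoin_induction with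
    | mem x hx =>
      obtain ⟨e, he, rfl⟩ := hx
      rw [← map_pow]
      congr 1
      have h1 : 2 ^ N ≡ 1 [MOD Nat.card E] := Nat.ModEq.pow_totient (Nat.coprime_two_left.mpr hodd)
      have h2 : 2 ^ N ≡ 1 [MOD orderOf e] := h1.of_dvd (Subgroup.orderOf_dvd_natCard E he)
      calc e ^ 2 ^ N = e ^ 1 := pow_eq_pow_iff_modEq.mpr h2
        _ = e := pow_one e
    | algebraMap r =>
      rw [← map_pow]
      congr 1
      rw [← hM']
      rcases (show ∀ r : ZMod 2, r = 0 ∨ r = 1 by decide) r with rfl | rfl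
      · exact zero_pow (Nat.succ_ne_zero M)
      · exact one_pow _
    | add x y hx hy ihx ihy =>
      have hchar : (2 : Module.End (ZMod 2) V) = 0 := by
        rw [← map_ofNat (algebraMap (ZMod 2) (Module.End (ZMod 2) V)) 2, show (2 : ZMod 2) = 0 from rfl, map_zero]
      have key : ∀ n : ℕ, (x + y) ^ 2 ^ n = x ^ 2 ^ n + y ^ 2 ^ n := by
        intro n
        induction n with
        | zero => simp
        | succ n ihn =>
          have hxy : (x ^ 2 ^ n) * (y ^ 2 ^ n) = (y ^ 2 ^ n) * (x ^ 2 ^ n) :=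
            ((Commute.pow_pow (show Commute x y from hcomm x hx y hy) _ _)).eq
          rw [pow_succ, pow_mul, pow_mul, pow_mul, ihn, pow_two, pow_two, pow_two, add_mul, mul_add, mul_add, hxy,
            show x ^ 2 ^ n * x ^ 2 ^ n + y ^ 2 ^ n * x ^ 2 ^ n + (y ^ 2 ^ n * x ^ 2 ^ n + y ^ 2 ^ n * y ^ 2 ^ n) =
              x ^ 2 ^ n * x ^ 2 ^ n + y ^ 2 ^ n * y ^ 2 ^ n + 2 * (y ^ 2 ^ n * x ^ 2 ^ n) by rw [two_mul]; abel,
            hchar, zero_mul, add_zero]
      rw [key, ihx, ihy]
    | mul x y hx hy ihx ihy =>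
      rw [(show Commute x y from hcomm x hx y hy).mul_pow, ihx, ihy]
  -- a residue field with a nontrivial character
  letI : CommRing A := { (inferInstance : Ring A) with mul_comm := fun a b => Subtype.ext (hcomm a a.2 b b.2) }
  haveI : IsReduced A := ⟨fun a ⟨n, hn⟩ => by
    have h1 : ∀ i : ℕ, a ^ (1 + i * M) = a := by
      intro i
      induction i with
      | zero => simp
      | succ i ih =>
        rw [show 1 + (i + 1) * M = (1 + i * M) + M by ring, pow_add, ih, ← pow_succ']
        exact Subtype.ext (hfixA a a.2)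
    rw [← h1 n]
    have hle : n ≤ 1 + n * M := le_trans (Nat.le_mul_of_pos_right n hMpos) (Nat.le_add_left _ _)
    exact pow_eq_zero_of_le hle hn⟩
  obtain ⟨e0, he0, he01⟩ := (Subgroup.ne_bot_iff_exists_ne_one).mp hE |> fun ⟨⟨x, hx⟩, h⟩ =>
    (⟨x, hx, fun e => h (Subtype.ext e)⟩ : ∃ e ∈ E, e ≠ 1)
  let a0 : A := ⟨ρ e0, hgenA e0 he0⟩ - 1
  have ha0 : a0 ≠ 0 := fun h => he01 (hρ (by
    rw [map_one]
    exact sub_eq_zero.mp (congrArg Subtype.val h)))
  obtain ⟨m, hm, ham⟩ : ∃ m : Ideal A, m.IsMaximal ∧ a0 ∉ m := by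
    by_contra h
    push Not at h
    have h1 : a0 ∈ nilradical A := by
      rw [nilradical_eq_sInf]
      refine Submodule.mem_sInf.mpr fun p hp => h p ?_
      haveI : Finite A := inferInstance
      haveI : Ideal.IsPrime p := hp
      exact Ideal.isMaximal_iff_isPrime.mpr hp
    rw [nilradical_eq_zero] at h1
    exact ha0 h1
  let K := A ⧸ m
  letI : Field K := Ideal.Quotient.field m
  haveI : Finite K := Finite.of_surjective _ (Ideal.Quotient.mk_surjective (I := m))
  -- the twisted characters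
  have hconjA : ∀ s ∈ S, ∀ a ∈ A, ρ s * a * ρ s⁻¹ ∈ A := by
    intro s hs a ha
    induction ha using Algebra.adjoin_induction with
    | mem x hx =>
      obtain ⟨e, he, rfl⟩ := hx
      rw [← map_mul, ← map_mul]
      exact hgenA _ (hnorm s hs e he)
    | algebraMap r =>
      rw [(Algebra.commutes r (ρ s)).symm, mul_assoc, ← map_mul, mul_inv_cancel, map_one, mul_one]
      exact A.algebraMap_mem r
    | add x y _ _ ihx ihy => rw [mul_add, add_mul]; exact A.add_mem ihx ihy
    | mul x y _ _ ihx ihy =>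
      have : ρ s * (x * y) * ρ s⁻¹ = (ρ s * x * ρ s⁻¹) * (ρ s * y * ρ s⁻¹) := by
        simp only [mul_assoc]
        rw [← mul_assoc (ρ s⁻¹) (ρ s), ← map_mul, inv_mul_cancel, map_one, one_mul]
      rw [this]
      exact A.mul_mem ihx ihy
  let c : S → (A →ₗ[ZMod 2] A) := fun s =>
    { toFun := fun a => ⟨ρ (s : G) * a * ρ (s : G)⁻¹, hconjA s s.2 a a.2⟩
      map_add' := fun a b => Subtype.ext (by simp [mul_add, add_mul])
      map_smul' := fun r a => Subtype.ext (by simp) }
  let ψ : S → (A →ₗ[ZMod 2] K) := fun s => (Ideal.Quotient.mkₐ (ZMod 2) m).toLinearMap.comp (c s)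
  let χ : S → (E →* K) := fun s =>
    { toFun := fun e => Ideal.Quotient.mk m ⟨ρ ((s : G) * e * (s : G)⁻¹), hgenA _ (hnorm s s.2 e e.2)⟩
      map_one' := by
        rw [← map_one (Ideal.Quotient.mk m)]
        congr 1
        exact Subtype.ext (by simp)
      map_mul' := fun a b => by
        rw [← map_mul]
        congr 1
        refine Subtype.ext ?_
        show ρ _ = ρ _ * ρ _
        rw [← map_mul]
        congr 1
        simp [mul_assoc] }
  have hχinj : Function.Injective χ := by
    intro s t hst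
    by_contra hne
    set u : G := (t : G) * (s : G)⁻¹ with hu
    have huS : u ∈ S := S.mul_mem t.2 (S.inv_mem s.2)
    have hu1 : u ≠ 1 := fun h => hne (Subtype.ext (mul_inv_eq_one.mp h).symm)
    let d : E →* E :=
      { toFun := fun e => ⟨u * e * u⁻¹ * (e : G)⁻¹, E.mul_mem (hnorm u huS e e.2) (E.inv_mem e.2)⟩
        map_one' := Subtype.ext (by simp)
        map_mul' := fun a b => Subtype.ext (by
          have h1 : Commute ((a : G)⁻¹) (u * b * u⁻¹) := hc _ (E.inv_mem a.2) _ (hnorm u huS b b.2)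
          have h2 : Commute ((a : G)⁻¹) ((b : G)⁻¹) := hc _ (E.inv_mem a.2) _ (E.inv_mem b.2)
          show u * (a * b) * u⁻¹ * ((a : G) * b)⁻¹ = u * a * u⁻¹ * (a : G)⁻¹ * (u * b * u⁻¹ * (b : G)⁻¹)
          rw [mul_inv_rev (a : G) (b : G)]
          calc u * (a * b) * u⁻¹ * ((b : G)⁻¹ * (a : G)⁻¹)
              = u * a * u⁻¹ * ((u * b * u⁻¹ * (b : G)⁻¹) * (a : G)⁻¹) := by group
            _ = _ := by rw [← (h1.mul_right h2).eq]; group) }
    have hdinj : Function.Injective d := (injective_iff_map_eq_one d).mpr fun e he => Subtype.ext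
      (hfree u huS hu1 e e.2 (mul_inv_eq_one.mp (congrArg Subtype.val he)))
    obtain ⟨e, he⟩ := Finite.surjective_of_injective hdinj ⟨(t : G) * (t : G)⁻¹ * e0, by
      rw [mul_inv_cancel, one_mul]; exact he0⟩
    have hee : u * (e : G) * u⁻¹ * (e : G)⁻¹ = e0 := by
      have := congrArg Subtype.val he
      simpa [d] using this
    -- evaluate at the conjugate of `e` under `s`
    have h1 := DFunLike.congr_fun hst ⟨(s : G)⁻¹ * e * s, by
      simpa using hnorm _ (S.inv_mem s.2) e e.2⟩
    change Ideal.Quotient.mk m _ = Ideal.Quotient.mk m _ at h1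
    apply ham
    have e1 : (s : G) * ((s : G)⁻¹ * e * s) * (s : G)⁻¹ = e := by group
    have e2 : (t : G) * ((s : G)⁻¹ * e * s) * (t : G)⁻¹ = e0 * e := by rw [← hee, hu]; group
    simp only [e1, e2] at h1
    have h2 : (⟨ρ (e0 * e), hgenA _ (E.mul_mem he0 e.2)⟩ : A) = ⟨ρ e0, hgenA _ he0⟩ * ⟨ρ e, hgenA _ e.2⟩ :=
      Subtype.ext (map_mul ρ _ _)
    rw [h2, map_mul (Ideal.Quotient.mk m)] at h1
    have hunit : IsUnit (Ideal.Quotient.mk m (⟨ρ (e : G), hgenA _ e.2⟩ : A)) := by
      refine (IsUnit.map _ ⟨⟨⟨ρ (e : G), hgenA _ e.2⟩, ⟨ρ (e : G)⁻¹, hgenA _ (E.inv_mem e.2)⟩, ?_, ?_⟩, rfl⟩)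
      · exact Subtype.ext (by rw [MulMemClass.coe_mul, ← map_mul, mul_inv_cancel, map_one]; rfl)
      · exact Subtype.ext (by rw [MulMemClass.coe_mul, ← map_mul, inv_mul_cancel, map_one]; rfl)
    have h3 : (1 : K) = Ideal.Quotient.mk m (⟨ρ e0, hgenA e0 he0⟩ : A) :=
      hunit.mul_right_cancel ((one_mul _).trans h1)
    rw [← Ideal.Quotient.eq_zero_iff_mem, map_sub, ← h3, map_one, sub_self]
  have hli : LinearIndependent K ψ := by
    let res : (A →ₗ[ZMod 2] K) →ₗ[K] (E → K) :=
      { toFun := fun f e => f ⟨ρ (e : G), hgenA _ e.2⟩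
        map_add' := fun f g => rfl
        map_smul' := fun k f => rfl }
    refine LinearIndependent.of_comp res ?_
    have h := (linearIndependent_monoidHom E K).comp χ hχinj
    convert h using 1
    all_goals first | rfl | skip
    funext s e
    show Ideal.Quotient.mk m _ = Ideal.Quotient.mk m _
    congr 1
    exact Subtype.ext (by simp [c])
  haveI := Fintype.ofFinite S
  haveI : Finite (A →ₗ[ZMod 2] K) := Finite.of_injective (fun f : A →ₗ[ZMod 2] K => (f : A → K)) DFunLike.coe_injective
  haveI : Module.Finite K (A →ₗ[ZMod 2] K) := Module.Finite.of_finite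
  have h1 := hli.fintype_card_le_finrank
  rw [Module.finrank_linearMap, Module.finrank_self, mul_one, ← Nat.card_eq_fintype_card] at h1
  exact h1.trans (finrank_adjoin_le A hcomm hMpos hfixA)

end CfsgLib.StrongEmbDim
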