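import Cfsg.Agent.Lib.StrongEmbDim.Number
import Mathlib

/-! Elements of odd prime power order acting on a space over the field of two elements. -/

set_option autoImplicit false
set_option linter.unusedSectionVars false
set_option linter.style.haveILetI false

namespace CfsgLib.StrongEmbDim

open Module

variable {G : Type*} [Group G] [Finite G] {V : Type*} [AddCommGroup V] [Module (ZMod 2) V]
  [Module.Finite (ZMod 2) V] (ρ : Representation (ZMod 2) G V)

/-- The space moved by an element. -/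
noncomputable def mv (x : G) : Submodule (ZMod 2) V := LinearMap.range (ρ x - 1)

theorem rho_apply_mul (x y : G) (v : V) : ρ (x * y) v = ρ x (ρ y v) := by
  rw [map_mul, Module.End.mul_apply]

theorem rho_one_apply (v : V) : ρ 1 v = v := by rw [map_one, Module.End.one_apply]

theorem sub_mem_mv (x : G) (v : V) : ρ x v - v ∈ mv ρ x := ⟨v, rfl⟩

theorem pow_fix {x : G} {v : V} (h : ρ x v = v) : ∀ i : ℕ, ρ (x ^ i) v = v
  | 0 => by rw [pow_zero, rho_one_apply]
  | i + 1 => by rw [pow_succ, rho_apply_mul, h, pow_fix h i]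

/-- The moved space of an element of odd order has no fixed vector. -/
theorem eq_zero_of_fix {y : G} (hy : Odd (orderOf y)) {v : V} (hv : v ∈ mv ρ y) (hfix : ρ y v = v) : v = 0 := by
  obtain ⟨u, rfl⟩ := hv
  set w := (ρ y - 1) u with hw
  have h1 : ∀ i : ℕ, ρ (y ^ i) u = u + (i : ZMod 2) • w := by
    intro i
    induction i with
    | zero => rw [pow_zero, rho_one_apply, Nat.cast_zero, zero_smul, add_zero]
    | succ i ih =>
      have hs : ρ y u = w + u := by rw [hw, LinearMap.sub_apply, Module.End.one_apply, sub_add_cancel]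
      rw [pow_succ, rho_apply_mul, hs, map_add, pow_fix ρ hfix i, ih, Nat.cast_succ, add_smul, one_smul]
      abel
  have h2 := h1 (orderOf y)
  rw [pow_orderOf_eq_one, rho_one_apply, hy.natCast_zmod_two, one_smul, left_eq_add] at h2
  exact h2

theorem mv_mono_pow (x : G) (i : ℕ) : mv ρ (x ^ i) ≤ mv ρ x := by
  rintro _ ⟨v, rfl⟩
  induction i with
  | zero => simp
  | succ i ih =>
    have : (ρ (x ^ (i + 1)) - 1) v = (ρ x - 1) (ρ (x ^ i) v) + (ρ (x ^ i) - 1) v := by
      rw [pow_succ', LinearMap.sub_apply, LinearMap.sub_apply, LinearMap.sub_apply, rho_apply_mul]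
      simp only [Module.End.one_apply]
      abel
    rw [this]
    exact add_mem ⟨_, rfl⟩ ih

theorem mv_invariant {x y : G} (h : x * y = y * x) {v : V} (hv : v ∈ mv ρ y) : ρ x v ∈ mv ρ y := by
  obtain ⟨u, rfl⟩ := hv
  refine ⟨ρ x u, ?_⟩
  simp only [LinearMap.sub_apply, Module.End.one_apply, map_sub, ← rho_apply_mul, h]

theorem mv_ne_bot (hρ : Function.Injective ρ) {y : G} (hy : y ≠ 1) : mv ρ y ≠ ⊥ := by
  intro h
  refine hy (hρ ?_)
  rw [map_one]
  exact sub_eq_zero.mp (LinearMap.range_eq_bot.mp h)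

/-- The orbits of a semiregular element all have its order. -/
theorem orderOf_dvd_card_free {K X : Type*} [Group K] [Finite K] [Finite X] [MulAction K X]
    (hfree : ∀ (k : K) (x : X), k • x = x → k = 1) : Nat.card K ∣ Nat.card X := by
  classical
  haveI := Fintype.ofFinite (Quotient (MulAction.orbitRel K X))
  rw [Nat.card_congr (MulAction.selfEquivSigmaOrbits K X), Nat.card_sigma]
  refine Finset.dvd_sum fun ω _ => ?_
  rw [Nat.card_congr (MulAction.orbitEquivQuotientStabilizer K ω.out)]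
  have hb : MulAction.stabilizer K ω.out = ⊥ :=
    eq_bot_iff.mpr fun k hk => Subgroup.mem_bot.mpr (hfree k _ (MulAction.mem_stabilizer_iff.mp hk))
  rw [← Subgroup.index_eq_card, hb, Subgroup.index_bot]

/-- An element `x` of odd prime power order, `y` its power of prime order. -/
theorem orderOf_dvd_mv (hρ : Function.Injective ρ) {r j : ℕ} (hr : r.Prime) (hro : Odd r) {x : G}
    (hx : orderOf x = r ^ (j + 1)) :
    mv ρ (x ^ r ^ j) ≠ ⊥ ∧ r ^ (j + 1) ∣ 2 ^ finrank (ZMod 2) (mv ρ (x ^ r ^ j)) - 1 := by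
  classical
  haveI : Finite V := Module.finite_of_finite (ZMod 2)
  set y := x ^ r ^ j with hy
  have hy1 : y ≠ 1 := fun h => by
    have := Nat.le_of_dvd (pow_pos hr.pos j) (hx ▸ orderOf_dvd_of_pow_eq_one h)
    rw [pow_succ] at this
    exact absurd this (not_le.mpr (lt_mul_of_one_lt_right (pow_pos hr.pos j) hr.one_lt))
  refine ⟨mv_ne_bot ρ hρ hy1, ?_⟩
  set W := mv ρ y
  let K := Subgroup.zpowers x
  have hcomm : ∀ k ∈ K, k * y = y * k := by
    rintro k ⟨i, rfl⟩
    exact ((Commute.refl x).zpow_left i).pow_right _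
  have hfree : ∀ k ∈ K, ∀ v ∈ W, ρ k v = v → v ≠ 0 → k = 1 := by
    intro k hk v hv hkv hv0
    by_contra hk1
    refine hv0 (eq_zero_of_fix ρ ?_ hv ?_)
    · rw [hy]; exact (hx ▸ hro.pow : Odd (orderOf x)).of_dvd_nat (orderOf_pow_dvd _)
    obtain ⟨i, rfl⟩ := (IsOfFinOrder.mem_powers_iff_mem_zpowers (isOfFinOrder_of_finite x)).mpr hk
    simp only at hkv hk1
    -- some power of `x ^ i` is `y`
    have hg : Nat.gcd i (r ^ (j + 1)) ∣ r ^ (j + 1) := Nat.gcd_dvd_right _ _
    obtain ⟨b, hb, hbe⟩ := (Nat.dvd_prime_pow hr).mp hg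
    have hbj : b ≤ j := by
      by_contra hlt
      have hbe' : Nat.gcd i (r ^ (j + 1)) = r ^ (j + 1) := by rw [hbe, show b = j + 1 by omega]
      exact hk1 (orderOf_dvd_iff_pow_eq_one.mp (hx ▸ hbe' ▸ Nat.gcd_dvd_left _ _))
    have hpow : ∃ c : ℕ, (x ^ i) ^ c = x ^ r ^ b := by
      have h1 : orderOf (x ^ i) = orderOf (x ^ r ^ b) := by
        rw [orderOf_pow, orderOf_pow, hx, Nat.gcd_comm, hbe,
          Nat.gcd_eq_right (pow_dvd_pow r (by omega : b ≤ j + 1))]
      have h2 : Subgroup.zpowers (x ^ i) = Subgroup.zpowers (x ^ r ^ b) := by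
        refine Subgroup.eq_of_le_of_card_ge ?_ (by rw [Nat.card_zpowers, Nat.card_zpowers, h1])
        obtain ⟨c, hc⟩ : r ^ b ∣ i := hbe ▸ Nat.gcd_dvd_left _ _
        rw [Subgroup.zpowers_le, hc, pow_mul]
        exact Subgroup.pow_mem _ (Subgroup.mem_zpowers _) c
      exact (IsOfFinOrder.mem_powers_iff_mem_zpowers (isOfFinOrder_of_finite _)).mpr
        (h2 ▸ Subgroup.mem_zpowers _)
    obtain ⟨c, hc⟩ := hpow
    obtain ⟨c', hc'⟩ : r ^ b ∣ r ^ j := pow_dvd_pow r hbj
    rw [hy, hc', pow_mul, ← hc]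
    exact pow_fix ρ (pow_fix ρ hkv c) c'
  let X := {v : W // v ≠ 0}
  letI : MulAction K X :=
    { smul := fun k v => ⟨⟨ρ (k : G) v.1.1, mv_invariant ρ (hcomm k k.2) v.1.2⟩, fun e => v.2 (by
        have e' : ρ (k : G) v.1.1 = 0 := congrArg Subtype.val e
        have h3 := congrArg (ρ (k : G)⁻¹) e'
        rw [← rho_apply_mul, inv_mul_cancel, rho_one_apply, map_zero] at h3
        exact Subtype.ext h3)⟩
      one_smul := fun v => Subtype.ext (Subtype.ext (rho_one_apply ρ _))
      mul_smul := fun k l v => Subtype.ext (Subtype.ext (rho_apply_mul ρ _ _ _)) }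
  have hdvd := orderOf_dvd_card_free (K := K) (X := X) fun k v h => Subtype.ext
    (hfree k k.2 v.1.1 v.1.2 (congrArg (fun w : X => (w.1 : V)) h) fun e => v.2 (Subtype.ext e))
  rw [Nat.card_zpowers, hx] at hdvd
  have hX : Nat.card X + 1 = Nat.card W := by
    rw [← Finite.card_option]
    exact Nat.card_congr (Equiv.optionSubtypeNe (0 : W))
  have hW := Module.natCard_eq_pow_finrank (K := ZMod 2) (V := W)
  rw [Nat.card_zmod] at hW
  rwa [← hW, ← hX, Nat.add_sub_cancel]

theorem le_finrank (hρ : Function.Injective ρ) {r j m : ℕ} (hr : r.Prime) (hro : Odd r) (hj : 0 < j) {x : G}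
    (hx : orderOf x = r ^ j) (hF : Forces (r ^ j) m) : m ≤ finrank (ZMod 2) V := by
  obtain ⟨j, rfl⟩ := Nat.exists_eq_succ_of_ne_zero hj.ne'
  obtain ⟨hne, hd⟩ := orderOf_dvd_mv ρ hρ hr hro hx
  have hpos := Nat.pos_of_ne_zero (mt Submodule.finrank_eq_zero.mp hne)
  exact (Nat.le_of_dvd hpos (hF _ hd)).trans (Submodule.finrank_le _)

theorem mv_conj (g z : G) : finrank (ZMod 2) (mv ρ (g * z * g⁻¹)) = finrank (ZMod 2) (mv ρ z) := by
  let e : V ≃ₗ[ZMod 2] V :=
    LinearEquiv.ofLinearMap (ρ g) (ρ g⁻¹) (by rw [← Module.End.mul_eq_comp, ← map_mul, mul_inv_cancel, map_one]; rfl)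
      (by rw [← Module.End.mul_eq_comp, ← map_mul, inv_mul_cancel, map_one]; rfl)
  have : mv ρ (g * z * g⁻¹) = (mv ρ z).map (e : V →ₗ[ZMod 2] V) := by
    apply le_antisymm
    · rintro _ ⟨v, rfl⟩
      refine ⟨(ρ z - 1) (ρ g⁻¹ v), ⟨_, rfl⟩, ?_⟩
      show ρ g _ = _
      simp only [LinearMap.sub_apply, Module.End.one_apply, map_sub, ← rho_apply_mul, mul_inv_cancel, rho_one_apply,
        mul_assoc]
    · rintro _ ⟨_, ⟨v, rfl⟩, rfl⟩
      refine ⟨ρ g v, ?_⟩
      show _ = ρ g _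
      simp only [LinearMap.sub_apply, Module.End.one_apply, map_sub, ← rho_apply_mul]
      rw [show g * z * g⁻¹ * g = g * z by group]
  rw [this]
  exact (e.finrank_map_eq _)

/-- An involution inverting an element moves half of what the element moves. -/
theorem exists_half (hρ : Function.Injective ρ) {r j : ℕ} (hr : r.Prime) (hro : Odd r) (hj : 0 < j) {x z : G}
    (hx : orderOf x = r ^ j) (hz : z * z = 1) (hinv : z * x * z = x⁻¹) :
    ∃ l : ℕ, 0 < l ∧ r ^ j ∣ 2 ^ (2 * l) - 1 ∧ l ≤ finrank (ZMod 2) (mv ρ z) := by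
  obtain ⟨j, rfl⟩ := Nat.exists_eq_succ_of_ne_zero hj.ne'
  obtain ⟨hne, hd⟩ := orderOf_dvd_mv ρ hρ hr hro hx
  set y := x ^ r ^ j with hy
  have hzi : z⁻¹ = z := inv_eq_of_mul_eq_one_right hz
  have hyinv : z * y * z = y⁻¹ := by
    have h := conj_pow (i := r ^ j) (a := z) (b := x)
    rw [hzi, hinv, inv_pow] at h
    exact h.symm
  have hodd : Odd (orderOf y) := by
    rw [hy]; exact (hx ▸ hro.pow : Odd (orderOf x)).of_dvd_nat (orderOf_pow_dvd _)
  set W := mv ρ y with hW
  have hzy : z * y = y⁻¹ * z := by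
    rw [← hyinv, mul_assoc, hz, mul_one]
  have hWz : ∀ v ∈ W, ρ z v ∈ W := by
    rintro _ ⟨u, rfl⟩
    refine ⟨-(ρ (y⁻¹ * z) u), ?_⟩
    simp only [LinearMap.sub_apply, Module.End.one_apply, map_sub, map_neg, ← rho_apply_mul]
    rw [← mul_assoc, mul_inv_cancel, one_mul, hzy]
    abel
  let T : W →ₗ[ZMod 2] W :=
    { toFun := fun v => ⟨ρ z v.1 - v.1, sub_mem (hWz _ v.2) v.2⟩
      map_add' := fun u v => Subtype.ext (by simp; abel)
      map_smul' := fun c v => Subtype.ext (by simp [smul_sub]) }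
  have hrk := T.finrank_range_add_finrank_ker
  have hrange : LinearMap.range T ≤ LinearMap.ker T := by
    rintro _ ⟨v, rfl⟩
    refine Subtype.ext ?_
    show ρ z (ρ z v.1 - v.1) - (ρ z v.1 - v.1) = 0
    rw [map_sub, ← rho_apply_mul, hz, rho_one_apply]
    have h2 : ∀ a : V, a + a = 0 := fun a => by rw [← two_smul (ZMod 2) a, show (2 : ZMod 2) = 0 from rfl, zero_smul]
    calc v.1 - ρ z v.1 - (ρ z v.1 - v.1) = (v.1 + v.1) - (ρ z v.1 + ρ z v.1) := by abel
      _ = 0 := by rw [h2, h2, sub_zero]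
  let Y : W ≃ₗ[ZMod 2] W :=
    { toFun := fun v => ⟨ρ y v.1, mv_invariant ρ rfl v.2⟩
      invFun := fun v => ⟨ρ y⁻¹ v.1, mv_invariant ρ (by rw [inv_mul_cancel, mul_inv_cancel]) v.2⟩
      map_add' := fun u v => Subtype.ext (map_add _ _ _)
      map_smul' := fun c v => Subtype.ext (map_smul _ _ _)
      left_inv := fun v => Subtype.ext (by
        show ρ y⁻¹ (ρ y v.1) = v.1
        rw [← rho_apply_mul, inv_mul_cancel, rho_one_apply])
      right_inv := fun v => Subtype.ext (by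
        show ρ y (ρ y⁻¹ v.1) = v.1
        rw [← rho_apply_mul, mul_inv_cancel, rho_one_apply]) }
  have hdisj : LinearMap.ker T ⊓ (LinearMap.ker T).map (Y : W →ₗ[ZMod 2] W) = ⊥ := by
    rw [Submodule.eq_bot_iff]
    rintro _ ⟨h1, v, h2, rfl⟩
    have e2 : ρ z v.1 = v.1 := sub_eq_zero.mp (congrArg Subtype.val (h2 : T v = 0))
    have e1 : ρ z (ρ y v.1) = ρ y v.1 := sub_eq_zero.mp (congrArg Subtype.val (h1 : T (Y v) = 0))
    rw [← rho_apply_mul, hzy, rho_apply_mul, e2] at e1
    have e3 := congrArg (ρ y) e1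
    rw [← rho_apply_mul, mul_inv_cancel, rho_one_apply, ← rho_apply_mul] at e3
    have hv0 : v.1 = 0 := by
      refine eq_zero_of_fix ρ hodd v.2 ?_
      obtain ⟨c, hc⟩ := hodd
      have h4 : y = (y * y) ^ (c + 1) := by
        rw [← pow_two, ← pow_mul, show 2 * (c + 1) = orderOf y + 1 by omega, pow_succ, pow_orderOf_eq_one, one_mul]
      rw [h4]
      exact pow_fix ρ e3.symm _
    have : v = 0 := Subtype.ext hv0
    rw [this, map_zero]
  have h1 : finrank (ZMod 2) ((LinearMap.ker T).map (Y : W →ₗ[ZMod 2] W)) = finrank (ZMod 2) (LinearMap.ker T) :=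
    Y.finrank_map_eq _
  have h2 := Submodule.finrank_sup_add_finrank_inf_eq (LinearMap.ker T) ((LinearMap.ker T).map (Y : W →ₗ[ZMod 2] W))
  rw [hdisj, finrank_bot, add_zero, h1] at h2
  have h3 : finrank (ZMod 2) ↥(LinearMap.ker T ⊔ (LinearMap.ker T).map (Y : W →ₗ[ZMod 2] W)) ≤ finrank (ZMod 2) W :=
    Submodule.finrank_le _
  have h4 := Submodule.finrank_mono hrange
  have hWl : finrank (ZMod 2) W = 2 * finrank (ZMod 2) (LinearMap.range T) := by omega
  have hpos := Nat.pos_of_ne_zero (mt Submodule.finrank_eq_zero.mp hne)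
  refine ⟨finrank (ZMod 2) (LinearMap.range T), by omega, by rw [← hWl]; exact hd, ?_⟩
  have h5 : (LinearMap.range T).map W.subtype ≤ mv ρ z := by
    rintro _ ⟨_, ⟨v, rfl⟩, rfl⟩
    exact sub_mem_mv ρ z v.1
  have h6 := Submodule.finrank_mono h5
  rwa [(Submodule.equivMapOfInjective W.subtype W.injective_subtype _).finrank_eq.symm] at h6

end CfsgLib.StrongEmbDim
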