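import Cfsg.Agent.Lib.StrongEmbDim.RankOne
import Cfsg.Agent.Lib.StrongEmbDim.Models
import Cfsg.Agent.Lib.Bender.GoodAll
import Cfsg.Agent.Lib.Bender.ConsGeneral

/-! Faithful modules over the field of two elements for groups with a strongly embedded subgroup. -/

set_option autoImplicit false
set_option linter.unusedSectionVars false
set_option linter.style.haveILetI false

namespace CfsgLib.StrongEmbDim

open Module CfsgLib.Bender CfsgLib.Bender.TwoClosed CfsgLib.Bender.OneFix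

universe u

variable {G : Type u} [Group G] [Finite G]

theorem not_central {H : Subgroup G} (hH : Cfsg.IsStronglyEmbedded H) {z : G} (hz1 : z ≠ 1) (hz2 : z * z = 1) :
    ¬ ∀ g : G, g * z = z * g := by
  intro hc
  obtain ⟨s, hsH, hs1, hs2⟩ := exists_invol_mem hH
  obtain ⟨g, hg⟩ := isConj_iff.mp (CfsgLib.StrongEmb.all_isConj hH
    (Assembly.orderOf_two (⟨hs1, hs2⟩ : IsInv s)) (Assembly.orderOf_two (⟨hz1, hz2⟩ : IsInv z)))
  have hsz : s = z := by
    calc s = g⁻¹ * z * g := by rw [← hg]; group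
      _ = z := by rw [mul_assoc, ← hc g, inv_mul_cancel_left]
  subst hsz
  obtain ⟨a, -, ha⟩ := SetLike.exists_of_lt (lt_top_iff_ne_top.2 hH.1)
  refine Nat.not_even_iff_odd.2 (hH.2.2 a ha) (even_iff_two_dvd.2 ?_)
  rw [← Assembly.orderOf_two (⟨hs1, hs2⟩ : IsInv s)]
  refine Subgroup.orderOf_dvd_natCard _ ⟨hsH, s, hsH, ?_⟩
  show a * s * a⁻¹ = s
  rw [hc a, mul_inv_cancel_right]

/-- The data of a target, pulled back to the group. -/
theorem exists_data {L : Type u} [Group L] [Finite L]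
    (hL : (∃ (F : Type) (_ : Field F) (_ : Fintype F), (∃ n : ℕ, 2 ≤ n ∧ Fintype.card F = 2 ^ n) ∧
          Nonempty (L ≃* Matrix.ProjectiveSpecialLinearGroup (Fin 2) F)) ∨
        Cfsg.Lie.IsoSuzuki L ∨
        (∃ (F : Type) (_ : Field F) (_ : Fintype F) (n : ℕ), 2 ≤ n ∧ Fintype.card F = (2 ^ n) ^ 2 ∧
          Nonempty (L ≃* Cfsg.PSU 3 F (2 ^ n)))) : ∃ n k, Data L n k := by
  rcases hL with ⟨F, i1, i2, ⟨n, hn, hc⟩, ⟨e⟩⟩ | ⟨F, i1, i2, m, hm, hc, ⟨e⟩⟩ | ⟨F, i1, i2, n, hn, hc, ⟨e⟩⟩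
  · exact ⟨n, n, (data_psl hn hc).of_equiv e⟩
  · exact ⟨_, _, (data_sz hm hc).of_equiv e⟩
  · exact ⟨n, 3 * n, (data_psu hn hc).of_equiv e⟩

theorem lift_involution {K : Subgroup G} [K.Normal] (hK : Odd (Nat.card K)) {x : G ⧸ K} (hx1 : x ≠ 1)
    (hx2 : x * x = 1) : ∃ z : G, z ≠ 1 ∧ z * z = 1 ∧ (z : G ⧸ K) = x := by
  obtain ⟨g, rfl⟩ := QuotientGroup.mk_surjective x
  have hgg : g * g ∈ K := (QuotientGroup.eq_one_iff _).mp hx2
  obtain ⟨a, ha⟩ : Odd (orderOf (g * g)) := hK.of_dvd_nat (Subgroup.orderOf_dvd_natCard K hgg)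
  refine ⟨g ^ (2 * a + 1), fun e => hx1 ?_, ?_, ?_⟩
  · have h := congrArg (QuotientGroup.mk (s := K)) e
    rwa [QuotientGroup.mk_pow, QuotientGroup.mk_one, pow_succ, pow_mul, pow_two, hx2, one_pow, one_mul] at h
  · rw [← pow_add, ← two_mul, pow_mul, pow_two, ← ha, pow_orderOf_eq_one]
  · rw [QuotientGroup.mk_pow, pow_succ, pow_mul, pow_two, hx2, one_pow, one_mul]

/-- Two-power kernel free image of a Sylow subgroup. -/
theorem sylow_image {K : Subgroup G} [K.Normal] (hK : Odd (Nat.card K)) (S : Sylow 2 G) (L : Subgroup (G ⧸ K))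
    [L.Normal] (hLi : Odd L.index) :
    ∃ (P : Sylow 2 L) (f : (S : Subgroup G) →* P), Function.Bijective f := by
  haveI : Fact (Nat.Prime 2) := ⟨Nat.prime_two⟩
  let S' : Sylow 2 (G ⧸ K) := S.mapSurjective (f := QuotientGroup.mk' K) (QuotientGroup.mk'_surjective K)
  have hle : (S' : Subgroup (G ⧸ K)) ≤ L := by
    intro x hx
    obtain ⟨a, ha⟩ := S'.2 ⟨x, hx⟩
    refine (QuotientGroup.eq_one_iff x).1 (orderOf_eq_one_iff.1 ?_)
    have h1 : orderOf (x : (G ⧸ K) ⧸ L) ∣ 2 ^ a := (orderOf_map_dvd (QuotientGroup.mk' L) x).trans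
      (orderOf_dvd_of_pow_eq_one (by simpa using congrArg Subtype.val ha))
    exact Nat.eq_one_of_dvd_coprimes (Nat.Coprime.pow_left a (Nat.coprime_two_left.2 hLi)) h1
      (orderOf_dvd_natCard _)
  let P : Sylow 2 L := S'.subtype hle
  let f : (S : Subgroup G) →* P :=
    { toFun := fun s => ⟨⟨((s : G) : G ⧸ K), hle ⟨s, s.2, rfl⟩⟩, ⟨s, s.2, rfl⟩⟩
      map_one' := rfl
      map_mul' := fun _ _ => rfl }
  refine ⟨P, f, (injective_iff_map_eq_one f).mpr fun s hs => ?_, ?_⟩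
  · have h1 : (s : G) ∈ K := (QuotientGroup.eq_one_iff _).mp (congrArg (fun w : P => ((w : L) : G ⧸ K)) hs)
    obtain ⟨a, ha⟩ := S.2 s
    refine Subtype.ext (orderOf_eq_one_iff.1 (Nat.eq_one_of_dvd_coprimes
      (Nat.Coprime.pow_left a (Nat.coprime_two_left.2 hK))
      (orderOf_dvd_of_pow_eq_one (by simpa using congrArg Subtype.val ha))
      (Subgroup.orderOf_dvd_natCard K h1)))
  · rintro ⟨⟨x, hxL⟩, hx⟩
    obtain ⟨s, hs, rfl⟩ := (show x ∈ (S' : Subgroup (G ⧸ K)) from hx)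
    exact ⟨⟨s, hs⟩, rfl⟩

theorem main (H : Subgroup G) (hH : Cfsg.IsStronglyEmbedded H) (S : Sylow 2 G) {V : Type*} [AddCommGroup V]
    [Module (ZMod 2) V] [Module.Finite (ZMod 2) V] (ρ : Representation (ZMod 2) G V) (hρ : Function.Injective ρ) :
    (∀ k : ℕ, Nat.card (S : Subgroup G) = 2 ^ k → 2 * k ≤ finrank (ZMod 2) V) ∧
      ∀ n : ℕ, (∀ z ∈ (S : Subgroup G) ⊓ Subgroup.centralizer ((S : Subgroup G) : Set G), z ^ 2 = 1) →
        Nat.card ↥((S : Subgroup G) ⊓ Subgroup.centralizer ((S : Subgroup G) : Set G)) = 2 ^ n →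
        ∀ s ∈ (S : Subgroup G), s ≠ 1 → n ≤ finrank (ZMod 2) (LinearMap.range (ρ s - 1)) := by
  classical
  haveI : Fact (Nat.Prime 2) := ⟨Nat.prime_two⟩
  have hA := Assembly.benderHyp Assembly.goodAll.{u}
  have hpow : ∀ s ∈ (S : Subgroup G), s ≠ 1 → ∃ i : ℕ, s ^ i ≠ 1 ∧ s ^ i * s ^ i = 1 := by
    intro s hs hs1
    obtain ⟨a, ha⟩ := S.2 ⟨s, hs⟩
    obtain ⟨b, -, hb⟩ := (Nat.dvd_prime_pow Nat.prime_two).mp
      (orderOf_dvd_of_pow_eq_one (by simpa using congrArg Subtype.val ha : s ^ 2 ^ a = 1))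
    obtain ⟨b, rfl⟩ : ∃ b', b = b' + 1 := Nat.exists_eq_succ_of_ne_zero fun e => hs1
      (orderOf_eq_one_iff.mp (by rw [hb, e, pow_zero]))
    refine ⟨2 ^ b, fun e => ?_, by rw [← pow_add, ← two_mul, ← pow_succ', ← hb, pow_orderOf_eq_one]⟩
    have := Nat.le_of_dvd (by positivity) (hb ▸ orderOf_dvd_of_pow_eq_one e)
    rw [pow_succ] at this
    have := Nat.one_le_two_pow (n := b)
    omega
  by_cases h4 : HasFour G
  · set K := H.normalCore
    have hKodd : Odd (Nat.card K) := odd_normalCore hH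
    obtain ⟨hH', hc'⟩ := stronglyEmbedded_quotient hH
    have h4' := hasFour_quotient _ (odd_normalCore hH) h4
    obtain ⟨Q, hQM, hQn, htr, hreg⟩ := hA _ _ hH' hc' h4'
    obtain ⟨t, -, hS⟩ := setup hH' hQM hQn htr hreg
    haveI := faithful hc'
    obtain ⟨L, hLn, hLi, hL⟩ := Assembly.suzukiHyp _ _ _ t Q hS h4'
    haveI := hLn
    obtain ⟨n₀, k₀, D⟩ := exists_data hL
    obtain ⟨P, f, hf⟩ := sylow_image hKodd S L hLi
    refine ⟨fun k hk => ?_, fun n hel hn s hs hs1 => ?_⟩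
    · obtain ⟨x, r, j, hr, hro, hj, hx, hF⟩ := D.big
      rw [Nat.card_eq_of_bijective f hf, D.card_sylow P] at hk
      obtain rfl := Nat.pow_right_injective le_rfl hk
      obtain ⟨g, hg⟩ := QuotientGroup.mk_surjective (x : G ⧸ K)
      have hd : r ^ j ∣ orderOf g := by
        rw [← hx, ← Subgroup.orderOf_coe, ← hg]
        exact orderOf_map_dvd (QuotientGroup.mk' K) g
      exact le_finrank ρ hρ hr hro hj (orderOf_pow_div hd) hF
    · have hle : 2 ^ n ≤ 2 ^ n₀ := by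
        refine hn ▸ (Nat.card_le_card_of_injective
          (fun z : ↥((S : Subgroup G) ⊓ Subgroup.centralizer ((S : Subgroup G) : Set G)) =>
            (⟨f ⟨z, z.2.1⟩, by
              rw [← map_mul, ← map_one f]
              congr 1
              exact Subtype.ext (by simpa [pow_two] using hel z z.2)⟩ : {x : P // x * x = 1})) ?_).trans (D.card_sq P)
        intro a b h
        have := hf.1 (congrArg Subtype.val h)
        exact Subtype.ext (congrArg (fun w : (S : Subgroup G) => (w : G)) this :)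
      obtain ⟨zL, yL, r, j, hz1, hz2, hinv, hr, hro, hj, hy, hF⟩ := D.real
      have hy1 : yL ≠ zL := fun e => by
        rw [e, orderOf_eq_prime (p := 2) (by rw [pow_two, hz2]) hz1] at hy
        exact absurd (hy ▸ hro.pow : Odd 2) (by decide)
      have hzi : zL⁻¹ = zL := inv_eq_of_mul_eq_one_right hz2
      have hj2 : zL * yL * (zL * yL) = 1 := by rw [← mul_assoc, hinv, inv_mul_cancel]
      have hj1 : zL * yL ≠ 1 := fun e => hy1 (by rw [← inv_eq_of_mul_eq_one_right e, hzi])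
      obtain ⟨z, hzG1, hzG2, hzm⟩ := lift_involution hKodd
        (x := (zL : G ⧸ K)) (fun e => hz1 (Subtype.ext e)) (congrArg Subtype.val hz2)
      obtain ⟨w, hw1, hw2, hwm⟩ := lift_involution hKodd
        (x := ((zL * yL : L) : G ⧸ K)) (fun e => hj1 (Subtype.ext e)) (congrArg Subtype.val hj2)
      have hzwi : z * (z * w) * z = (z * w)⁻¹ := by
        rw [mul_inv_rev, inv_eq_of_mul_eq_one_right hw2, inv_eq_of_mul_eq_one_right hzG2, ← mul_assoc, hzG2,
          one_mul]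
      have hd : r ^ j ∣ orderOf (z * w) := by
        have hm : ((z * w : G) : G ⧸ K) = (yL : G ⧸ K) := by
          rw [QuotientGroup.mk_mul, hzm, hwm, ← Subgroup.coe_mul, ← mul_assoc, hz2, one_mul]
        rw [← hy, ← Subgroup.orderOf_coe, ← hm]
        exact orderOf_map_dvd (QuotientGroup.mk' K) (z * w)
      obtain ⟨l, hl0, hl, hlr⟩ := exists_half ρ hρ hr hro hj (orderOf_pow_div hd) hzG2
        (conj_pow_inv hzG2 hzwi _)
      have hnl : n ≤ l := ((Nat.pow_le_pow_iff_right one_lt_two).mp hle).trans (Nat.le_of_dvd hl0 (hF l hl))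
      obtain ⟨i, hi1, hi2⟩ := hpow s hs hs1
      obtain ⟨g, hg⟩ := isConj_iff.mp (CfsgLib.StrongEmb.all_isConj hH
        (Assembly.orderOf_two (⟨hzG1, hzG2⟩ : IsInv z)) (Assembly.orderOf_two (⟨hi1, hi2⟩ : IsInv (s ^ i))))
      calc n ≤ finrank (ZMod 2) (mv ρ z) := hnl.trans hlr
        _ = finrank (ZMod 2) (mv ρ (s ^ i)) := by rw [← hg, mv_conj]
        _ ≤ _ := Submodule.finrank_mono (mv_mono_pow ρ s i)
  · have huniq : ∀ x y : G, x ≠ 1 → x * x = 1 → y ≠ 1 → y * y = 1 → x * y = y * x → x = y :=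
      fun x y hx hx2 hy hy2 h => Assembly.eq_of_commute h4 ⟨hx, hx2⟩ ⟨hy, hy2⟩ h
    have heven : Even (Nat.card G) := even_card hH
    obtain ⟨z, hzS, hz1, hz2⟩ : ∃ z ∈ (S : Subgroup G), z ≠ 1 ∧ z * z = 1 := by
      obtain ⟨x, hx⟩ := exists_prime_orderOf_dvd_card' (G := (S : Subgroup G)) 2
        (S.dvd_card_of_dvd_card heven.two_dvd)
      have hx' : orderOf (x : G) = 2 := (Subgroup.orderOf_coe x).trans hx
      exact ⟨x, x.2, fun e => by rw [e, orderOf_one] at hx'; omega, sq_one_of_order hx'⟩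
    refine ⟨fun k hk => ?_, fun n hel hn s hs hs1 => ?_⟩
    · obtain ⟨htop, -⟩ := rankOne_case heven h4 z (Assembly.orderOf_two (⟨hz1, hz2⟩ : IsInv z))
      refine two_k_le ρ hρ S hk huniq hzS hz1 hz2 (Cfsg.pPrimeCore 2 G) ?_ ?_
      · exact Nat.coprime_two_right.mp (CfsgLib.card_pPrimeCore_coprime 2)
      · by_contra h
        push Not at h
        refine not_central hH hz1 hz2 fun g => ?_
        have hle : Cfsg.pPrimeCore 2 G ⊔ Subgroup.centralizer ({z} : Set G) ≤ Subgroup.centralizer ({z} : Set G) :=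
          sup_le (fun x hx => Subgroup.mem_centralizer_singleton_iff.mpr (h x hx).symm) le_rfl
        exact Subgroup.mem_centralizer_singleton_iff.mp (hle (htop ▸ Subgroup.mem_top g))
    · have hsub : ∀ x : ↥((S : Subgroup G) ⊓ Subgroup.centralizer ((S : Subgroup G) : Set G)),
          (x : G) = 1 ∨ (x : G) = z := fun x => by
        by_cases h1 : (x : G) = 1
        · exact Or.inl h1
        · exact Or.inr (huniq _ _ h1 (by simpa [pow_two] using hel x x.2) hz1 hz2
            (Subgroup.mem_centralizer_iff.mp x.2.2 z hzS).symm)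
      have h2 : 2 ^ n ≤ 2 := by
        rw [← hn]
        calc Nat.card ↥((S : Subgroup G) ⊓ Subgroup.centralizer ((S : Subgroup G) : Set G))
            ≤ Nat.card ({1, z} : Set G) := Nat.card_le_card_of_injective
              (fun x => ⟨x, by simpa using hsub x⟩) fun a b h => Subtype.ext (congrArg Subtype.val h :)
          _ ≤ 2 := by
            rw [Nat.card_coe_set_eq]
            exact (Set.ncard_insert_le _ _).trans (by rw [Set.ncard_singleton])
      have hn1 : n ≤ 1 := (Nat.pow_le_pow_iff_right one_lt_two).mp (h2.trans_eq (pow_one 2).symm)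
      exact hn1.trans (Nat.pos_of_ne_zero (mt Submodule.finrank_eq_zero.mp (mv_ne_bot ρ hρ hs1)))

end CfsgLib.StrongEmbDim
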