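import Cfsg.Agent.S2904
import Mathlib.FieldTheory.Finite.Basic

/-! Prime powers whose divisibility of `2 ^ d - 1` forces divisibility of `d`. -/

set_option autoImplicit false

namespace CfsgLib.StrongEmbDim

/-- `e` divides `2 ^ d - 1` only if `m` divides `d`. -/
def Forces (e m : ℕ) : Prop := ∀ d : ℕ, e ∣ 2 ^ d - 1 → m ∣ d

theorem forces_of_min {e m : ℕ} (hm : 0 < m) (he : e ∣ 2 ^ m - 1)
    (hmin : ∀ i, 0 < i → i < m → ¬ e ∣ 2 ^ i - 1) : Forces e m := by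
  intro d hd
  have h := Nat.pow_sub_one_gcd_pow_sub_one 2 d m
  have h5 : e ∣ 2 ^ Nat.gcd d m - 1 := h ▸ Nat.dvd_gcd hd he
  have h6 : Nat.gcd d m = m := by
    by_contra hne
    exact hmin _ (Nat.gcd_pos_of_pos_right _ hm)
      (lt_of_le_of_ne (Nat.le_of_dvd hm (Nat.gcd_dvd_right _ _)) hne) h5
  exact h6 ▸ Nat.gcd_dvd_left _ _

theorem exists_forces {m : ℕ} (hm : 2 ≤ m) (h6 : m ≠ 6) :
    ∃ r : ℕ, r.Prime ∧ r ∣ 2 ^ m - 1 ∧ Forces r m := by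
  obtain ⟨r, hr, hd, hmin⟩ := Cfsg.Agent.S2904.result 2 m (by norm_num) hm (fun h => h6 h.2)
    (fun ⟨_, j, hj⟩ => by
      rcases j with _ | _ | j
      · norm_num at hj
      · norm_num at hj
      · rw [pow_succ, pow_succ] at hj; omega)
  exact ⟨r, hr, hd, forces_of_min (by omega) hd hmin⟩

theorem exists_forces_succ {f : ℕ} (hf : 2 ≤ f) (h3 : f ≠ 3) :
    ∃ r : ℕ, r.Prime ∧ r ∣ 2 ^ f + 1 ∧ Forces r (2 * f) := by
  obtain ⟨r, hr, hd, hF⟩ := exists_forces (m := 2 * f) (by omega) (by omega)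
  refine ⟨r, hr, ?_, hF⟩
  have h1 : 2 ^ (2 * f) - 1 = (2 ^ f + 1) * (2 ^ f - 1) := by
    rw [two_mul, pow_add]
    have := Nat.one_le_two_pow (n := f)
    rw [Nat.add_mul, one_mul, Nat.mul_sub, mul_one]
    have : 2 ^ f ≤ 2 ^ f * 2 ^ f := Nat.le_mul_self _
    omega
  rw [h1] at hd
  refine ((Nat.Prime.dvd_mul hr).mp hd).resolve_right fun h => ?_
  have := Nat.le_of_dvd (by omega) (hF f h)
  omega

/-- A prime power dividing `2 ^ f + 1`. -/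
theorem exists_forces_pow {f : ℕ} (hf : 2 ≤ f) :
    ∃ r j : ℕ, r.Prime ∧ 0 < j ∧ r ^ j ∣ 2 ^ f + 1 ∧ Forces (r ^ j) (2 * f) := by
  by_cases h3 : f = 3
  · subst h3
    refine ⟨3, 2, Nat.prime_three, two_pos, by norm_num, forces_of_min (by norm_num) (by norm_num) ?_⟩
    intro i hi hlt
    interval_cases i <;> norm_num
  · obtain ⟨r, hr, hd, hF⟩ := exists_forces_succ hf h3
    exact ⟨r, 1, hr, one_pos, by rwa [pow_one], by rwa [pow_one]⟩

theorem odd_of_dvd_succ {f r : ℕ} (hf : 1 ≤ f) (h : r ∣ 2 ^ f + 1) : Odd r :=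
  ((Nat.even_pow.mpr ⟨even_two, by omega⟩ : Even (2 ^ f)).add_one).of_dvd_nat h

theorem odd_pow_sub_one {f r : ℕ} (hf : 1 ≤ f) (h : r ∣ 2 ^ f - 1) : Odd r := by
  refine Odd.of_dvd_nat ?_ h
  exact Nat.Even.sub_odd Nat.one_le_two_pow (Nat.even_pow.mpr ⟨even_two, by omega⟩) odd_one

end CfsgLib.StrongEmbDim
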