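import Cfsg.Agent.Lib.StrongEmbDim.Abelian
import Cfsg.Agent.Lib.CyclicTIDim.Basic
import Cfsg.Agent.Lib.StrongEmbDim.Linear
import Cfsg.Agent.S0016

/-! Groups with a single non-central class of involutions and no four group: `2 k ≤ dim`. -/

set_option autoImplicit false
set_option linter.unusedSectionVars false
set_option linter.style.haveILetI false

namespace CfsgLib.StrongEmbDim

open Module

variable {G : Type*} [Group G] [Finite G] {V : Type*} [AddCommGroup V] [Module (ZMod 2) V]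
  [Module.Finite (ZMod 2) V] (ρ : Representation (ZMod 2) G V)

theorem two_pow_lt_finrank (hρ : Function.Injective ρ) {w : G} {j : ℕ} (hw : orderOf w = 2 ^ (j + 1)) :
    2 ^ j < finrank (ZMod 2) V := by
  haveI : Fact (Nat.Prime 2) := ⟨Nat.prime_two⟩
  by_contra hle
  push Not at hle
  set T := ρ w - 1 with hT
  have hnil : T ^ 2 ^ (j + 1) = 0 := by
    rw [hT, CfsgLib.CyclicTIDim.sub_one_pow_char, ← map_pow, ← hw, pow_orderOf_eq_one, map_one, sub_self]
  have hd : T ^ finrank (ZMod 2) V = 0 := by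
    have := Module.End.ker_pow_eq_ker_pow_finrank_of_le (f := T)
      (m := 2 ^ (j + 1)) (hle.trans (Nat.pow_le_pow_right two_pos (Nat.le_succ j)))
    rw [hnil, LinearMap.ker_zero] at this
    exact LinearMap.ker_eq_top.1 this.symm
  have h := pow_eq_zero_of_le hle hd
  rw [hT, CfsgLib.CyclicTIDim.sub_one_pow_char, ← map_pow, sub_eq_zero, ← map_one ρ] at h
  have h2 := Nat.le_of_dvd (by positivity) (hw ▸ orderOf_dvd_of_pow_eq_one (hρ h))
  rw [pow_succ] at h2
  have := Nat.one_le_two_pow (n := j)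
  omega

theorem card_dvd_gl (hρ : Function.Injective ρ) (R : Subgroup G) :
    Nat.card R ∣ ∏ i : Fin (finrank (ZMod 2) V), (2 ^ finrank (ZMod 2) V - 2 ^ (i : ℕ)) := by
  classical
  let b := Module.finBasis (ZMod 2) V
  let φ : G →* GL (Fin (finrank (ZMod 2) V)) (ZMod 2) :=
    (Units.mapEquiv (LinearMap.toMatrixAlgEquiv b).toMulEquiv).toMonoidHom.comp (MonoidHom.toHomUnits ρ)
  have hφ : Function.Injective φ := by
    intro x y h
    exact hρ (congrArg Units.val ((Units.mapEquiv (LinearMap.toMatrixAlgEquiv b).toMulEquiv).injective h))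
  have h1 : Nat.card R ∣ Nat.card (GL (Fin (finrank (ZMod 2) V)) (ZMod 2)) := by
    rw [← Subgroup.card_map_of_injective (f := φ) hφ (K := R)]
    exact Subgroup.card_subgroup_dvd_card _
  rwa [Matrix.card_GL_field, ZMod.card] at h1

/-- The odd part of the order of the largest linear group in question. -/
def oddPart : ℕ → ℕ
  | 2 => 3 * 7
  | 3 => 3 ^ 2 * 5 * 7 * 31
  | 4 => 3 ^ 4 * 5 * 7 ^ 2 * 31 * 127
  | 5 => 3 ^ 5 * 5 ^ 2 * 7 ^ 3 * 17 * 31 * 73 * 127
  | _ => 1

theorem gl_dvd {k d : ℕ} (hk : 2 ≤ k) (hk5 : k ≤ 5) (hd : d < 2 * k) :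
    (∏ i : Fin d, (2 ^ d - 2 ^ (i : ℕ))) ∣ 2 ^ 36 * oddPart k := by
  interval_cases k <;> interval_cases d <;> decide +kernel

theorem le_of_pow_dvd {r v b N : ℕ} (hv : r ^ v ∣ N) (hb : ¬ r ^ (b + 1) ∣ N) : v ≤ b := by
  by_contra h
  exact hb ((pow_dvd_pow r (by omega : b + 1 ≤ v)).trans hv)

theorem sq_one_of_order {H : Type*} [Group H] {x : H} (h : orderOf x = 2) : x * x = 1 := by
  have h1 := pow_orderOf_eq_one x
  rwa [h, pow_two] at h1

theorem full_power {k r v m : ℕ} (hk : 2 ≤ k) (hk5 : k ≤ 5) (hr : r.Prime) (hm : 0 < m) (hmv : m ≤ v)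
    (hv : r ^ v ∣ oddPart k) (hk2 : 2 ^ k ∣ r ^ m - 1) : m = v := by
  have hrN : r ∣ oddPart k := (dvd_pow_self r (by omega)).trans hv
  have key : ∀ {p : ℕ}, p.Prime → r ∣ p → r = p := fun hp h => (Nat.prime_dvd_prime_iff_eq hr hp).mp h
  interval_cases k <;> simp only [oddPart] at hrN hv
  · rcases hr.dvd_mul.mp hrN with h | h
    all_goals (obtain rfl := key (by norm_num) h)
    all_goals (have := le_of_pow_dvd (b := 1) hv (by norm_num))
    all_goals omega
  · simp only [hr.dvd_mul] at hrN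
    rcases hrN with ((h | h) | h) | h
    · obtain rfl := key (by norm_num) (hr.dvd_of_dvd_pow h)
      have := le_of_pow_dvd (b := 2) hv (by norm_num)
      have := hmv.trans this
      interval_cases m <;> first | omega | (norm_num at hk2)
    all_goals (obtain rfl := key (by norm_num) h)
    all_goals (have := le_of_pow_dvd (b := 1) hv (by norm_num))
    all_goals omega
  · simp only [hr.dvd_mul] at hrN
    rcases hrN with (((h | h) | h) | h) | h
    · obtain rfl := key (by norm_num) (hr.dvd_of_dvd_pow h)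
      have := le_of_pow_dvd (b := 4) hv (by norm_num)
      have := hmv.trans this
      interval_cases m <;> first | omega | (norm_num at hk2)
    · obtain rfl := key (by norm_num) h
      have := le_of_pow_dvd (b := 1) hv (by norm_num)
      omega
    · obtain rfl := key (by norm_num) (hr.dvd_of_dvd_pow h)
      have := le_of_pow_dvd (b := 2) hv (by norm_num)
      have := hmv.trans this
      interval_cases m <;> first | omega | (norm_num at hk2)
    all_goals (obtain rfl := key (by norm_num) h)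
    all_goals (have := le_of_pow_dvd (b := 1) hv (by norm_num))
    all_goals omega
  · simp only [hr.dvd_mul] at hrN
    rcases hrN with (((((h | h) | h) | h) | h) | h) | h
    · obtain rfl := key (by norm_num) (hr.dvd_of_dvd_pow h)
      have := le_of_pow_dvd (b := 5) hv (by norm_num)
      have := hmv.trans this
      interval_cases m <;> first | omega | (norm_num at hk2)
    · obtain rfl := key (by norm_num) (hr.dvd_of_dvd_pow h)
      have := le_of_pow_dvd (b := 2) hv (by norm_num)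
      have := hmv.trans this
      interval_cases m <;> first | omega | (norm_num at hk2)
    · obtain rfl := key (by norm_num) (hr.dvd_of_dvd_pow h)
      have := le_of_pow_dvd (b := 3) hv (by norm_num)
      have := hmv.trans this
      interval_cases m <;> first | omega | (norm_num at hk2)
    all_goals (obtain rfl := key (by norm_num) h)
    all_goals (have := le_of_pow_dvd (b := 1) hv (by norm_num))
    all_goals omega

/-- A Sylow subgroup of a normal subgroup of odd order is normalised by a Sylow 2-subgroup. -/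
theorem exists_invariant (S : Sylow 2 G) (N : Subgroup G) [N.Normal] (hN : Odd (Nat.card N)) (r : ℕ) [Fact r.Prime] :
    ∃ R : Sylow r N, ∀ s ∈ (S : Subgroup G), ∀ x ∈ (R : Subgroup N).map N.subtype,
      s * x * s⁻¹ ∈ (R : Subgroup N).map N.subtype := by
  haveI : Fact (Nat.Prime 2) := ⟨Nat.prime_two⟩
  obtain ⟨R₀⟩ : Nonempty (Sylow r N) := inferInstance
  have hfr := Sylow.normalizer_sup_eq_top R₀
  set M := Subgroup.normalizer (((R₀ : Subgroup N).map N.subtype : Subgroup G) : Set G) with hM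
  have hidx : M.index ∣ Nat.card N := by
    have horb : MulAction.orbit N ((1 : G) : G ⧸ M) = Set.univ := by
      refine Set.eq_univ_of_forall fun c => ?_
      induction c using QuotientGroup.induction_on with
      | H g =>
        have hg : g ∈ ((N ⊔ M : Subgroup G) : Set G) := by rw [sup_comm, hfr]; trivial
        rw [Subgroup.normal_mul] at hg
        obtain ⟨n, hn, x, hx, rfl⟩ := hg
        refine ⟨⟨n, hn⟩, ?_⟩
        show ((n * 1 : G) : G ⧸ M) = ((n * x : G) : G ⧸ M)
        rw [mul_one, QuotientGroup.eq, inv_mul_cancel_left]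
        exact hx
    have h1 := MulAction.index_stabilizer N ((1 : G) : G ⧸ M)
    rw [horb, Set.ncard_univ, ← Subgroup.index_eq_card] at h1
    exact h1 ▸ Subgroup.index_dvd_card _
  obtain ⟨P₀⟩ : Nonempty (Sylow 2 M) := inferInstance
  have hdiv : ¬ 2 ∣ ((P₀ : Subgroup M).map M.subtype).index := by
    rw [Subgroup.index_map_subtype, Nat.prime_two.dvd_mul, not_or]
    exact ⟨P₀.not_dvd_index, fun h => Nat.not_even_iff_odd.mpr hN (even_iff_two_dvd.mpr (h.trans hidx))⟩
  let P : Sylow 2 G := IsPGroup.toSylow (P₀.2.map M.subtype) hdiv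
  obtain ⟨g, hg⟩ := MulAction.exists_smul_eq G P S
  let α : MulAut N := MulAut.conjNormal g
  let R : Sylow r N := α • R₀
  refine ⟨R, fun s hs x hx => ?_⟩
  obtain ⟨y, hy, rfl⟩ := hx
  obtain ⟨y₀, hy₀, rfl⟩ := hy
  rw [← hg] at hs
  obtain ⟨p, hp, rfl⟩ := hs
  have hpM : p ∈ M := Subgroup.map_subtype_le _ hp
  obtain ⟨y₁, hy₁, e⟩ := (Subgroup.mem_normalizer_iff.mp hpM _).mp (Subgroup.mem_map_of_mem N.subtype hy₀)
  refine ⟨α y₁, ⟨y₁, hy₁, rfl⟩, ?_⟩
  show g * (y₁ : G) * g⁻¹ = g * p * g⁻¹ * (g * (y₀ : G) * g⁻¹) * (g * p * g⁻¹)⁻¹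
  rw [show (y₁ : G) = p * y₀ * p⁻¹ from e]
  group

theorem two_k_le (hρ : Function.Injective ρ) (S : Sylow 2 G) {k : ℕ} (hk : Nat.card S = 2 ^ k)
    (huniq : ∀ x y : G, x ≠ 1 → x * x = 1 → y ≠ 1 → y * y = 1 → x * y = y * x → x = y)
    {z : G} (hzS : z ∈ (S : Subgroup G)) (hz1 : z ≠ 1) (hz2 : z * z = 1)
    (N : Subgroup G) [N.Normal] (hN : Odd (Nat.card N)) (hnc : ∃ x ∈ N, z * x ≠ x * z) :
    2 * k ≤ finrank (ZMod 2) V := by
  classical
  haveI : Fact (Nat.Prime 2) := ⟨Nat.prime_two⟩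
  by_contra hlt
  push Not at hlt
  have hk1 : 1 ≤ k := by
    by_contra h
    rw [show k = 0 by omega, pow_zero] at hk
    exact hz1 (congrArg Subtype.val ((Nat.card_eq_one_iff_unique.mp hk).1.elim ⟨z, hzS⟩ 1))
  have hzo : orderOf z = 2 := orderOf_eq_prime (by rw [pow_two, hz2]) hz1
  have hd2 : 2 ≤ finrank (ZMod 2) V := two_pow_lt_finrank ρ hρ (j := 0) (by rw [hzo]; rfl)
  -- an element generating a subgroup of index at most two
  obtain ⟨w, j, hw, hj⟩ : ∃ (w : G) (j : ℕ), orderOf w = 2 ^ (j + 1) ∧ k ≤ j + 2 := by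
    have hu : ∀ A B : Subgroup S, Nat.card A = 2 → Nat.card B = 2 → A = B := by
      intro A B hA hB
      have key : ∀ C : Subgroup S, Nat.card C = 2 → C = Subgroup.zpowers ⟨z, hzS⟩ := by
        intro C hC
        obtain ⟨c, hc⟩ := exists_prime_orderOf_dvd_card' (G := C) 2 hC.symm.dvd
        have hc' : orderOf (((c : C) : S) : G) = 2 := by rw [Subgroup.orderOf_coe, Subgroup.orderOf_coe, hc]
        have hc1 : (((c : C) : S) : G) ≠ 1 := fun e => by rw [e, orderOf_one] at hc'; omega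
        have hc2 : (((c : C) : S) : G) * ((c : C) : S) = 1 := sq_one_of_order hc'
        haveI : Nontrivial S := nontrivial_of_ne ⟨z, hzS⟩ 1 fun e => hz1 (congrArg Subtype.val e)
        haveI := S.2.center_nontrivial
        obtain ⟨n, hn, hcc⟩ := (S.2.to_subgroup (Subgroup.center S)).nontrivial_iff_card.mp inferInstance
        obtain ⟨u, hu2⟩ := exists_prime_orderOf_dvd_card' (G := Subgroup.center S) 2 (hcc ▸ dvd_pow_self 2 hn.ne')
        have hu' : orderOf (((u : Subgroup.center S) : S) : G) = 2 := by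
          rw [Subgroup.orderOf_coe, Subgroup.orderOf_coe, hu2]
        have hall : ∀ x : S, (x : G) ≠ 1 → (x : G) * x = 1 → (x : G) = ((u : S) : G) := fun x h1 h2 =>
          huniq _ _ h1 h2 (fun e => by rw [e, orderOf_one] at hu'; omega)
            (sq_one_of_order hu')
            (congrArg Subtype.val (Subgroup.mem_center_iff.mp u.2 x))
        have hcz : ((c : C) : S) = ⟨z, hzS⟩ :=
          Subtype.ext ((hall _ hc1 hc2).trans (hall ⟨z, hzS⟩ hz1 hz2).symm)
        symm
        refine Subgroup.eq_of_le_of_card_ge (Subgroup.zpowers_le.mpr (hcz ▸ (c : C).2)) ?_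
        rw [Nat.card_zpowers, hC, ← Subgroup.orderOf_coe]
        exact hzo.ge
      rw [key A hA, key B hB]
    rcases Cfsg.Agent.S0016.result 2 S.2 hu with hcyc | ⟨-, n, ⟨e⟩⟩
    · obtain ⟨g, hg⟩ := IsCyclic.exists_ofOrder_eq_natCard (α := S)
      refine ⟨g, k - 1, ?_, by omega⟩
      rw [Subgroup.orderOf_coe, hg, hk, Nat.sub_add_cancel hk1]
    · refine ⟨(e.symm (QuaternionGroup.a 1) : S), n, ?_, ?_⟩
      · rw [Subgroup.orderOf_coe, MulEquiv.orderOf_eq, QuaternionGroup.orderOf_a_one, pow_succ']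
      · have h := Nat.card_congr e.toEquiv
        rw [hk, Nat.card_eq_fintype_card, QuaternionGroup.card, show 4 * 2 ^ n = 2 ^ (n + 2) by ring] at h
        exact (Nat.pow_right_injective le_rfl h).le
  have hlow := two_pow_lt_finrank ρ hρ hw
  have hk5 : k ≤ 5 := by
    by_contra h
    have h4 : 4 ≤ j := by omega
    have : ∀ i, 4 ≤ i → 2 * i + 4 ≤ 2 ^ i + 1 + 0 ∨ i = 4 := fun i hi => by
      induction i, hi using Nat.le_induction with
      | base => exact Or.inr rfl
      | succ i hi ih => left; rw [pow_succ]; rcases ih with ih | rfl <;> omega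
    rcases this j h4 with h5 | rfl <;> omega
  have hk2 : 2 ≤ k := by omega
  -- a prime with an invariant Sylow subgroup moved by `z`
  obtain ⟨r, hr, R, hRS, x₀, hx₀, hx₀z⟩ : ∃ (r : ℕ) (_ : r.Prime) (R : Sylow r N),
      (∀ s ∈ (S : Subgroup G), ∀ x ∈ (R : Subgroup N).map N.subtype, s * x * s⁻¹ ∈ (R : Subgroup N).map N.subtype) ∧
        ∃ x ∈ (R : Subgroup N).map N.subtype, z * x ≠ x * z := by
    by_contra hcon
    push Not at hcon
    obtain ⟨x, hxN, hxz⟩ := hnc
    set C := (Subgroup.centralizer ({z} : Set G)).subgroupOf N with hC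
    have : Nat.card N ∣ Nat.card C := by
      refine (Nat.dvd_iff_prime_pow_dvd_dvd _ _).mpr fun p e hp he => ?_
      haveI := Fact.mk hp
      obtain ⟨R, hR⟩ := exists_invariant S N hN p
      have h1 : (R : Subgroup N) ≤ C := fun y hy => Subgroup.mem_centralizer_singleton_iff.mpr
        (hcon p hp R hR _ (Subgroup.mem_map_of_mem N.subtype hy)).symm
      refine dvd_trans ?_ (Subgroup.card_dvd_of_le h1)
      rw [R.card_eq_multiplicity]
      exact pow_dvd_pow p ((hp.pow_dvd_iff_le_factorization Nat.card_pos.ne').mp he)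
    have htop : C = ⊤ := Subgroup.eq_top_of_le_card C (Nat.le_of_dvd Nat.card_pos this)
    exact hxz (Subgroup.mem_centralizer_singleton_iff.mp
      (show (⟨x, hxN⟩ : N) ∈ C from htop ▸ Subgroup.mem_top _)).symm
  haveI := Fact.mk hr
  set R' := (R : Subgroup N).map N.subtype with hR'
  have hR'odd : Odd (Nat.card R') :=
    hN.of_dvd_nat (Subgroup.card_dvd_of_le (Subgroup.map_subtype_le _))
  obtain ⟨v, hv⟩ := IsPGroup.iff_card.mp (R.2.map N.subtype)
  rw [← hR'] at hv
  have hzi : z⁻¹ = z := inv_eq_of_mul_eq_one_right hz2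
  have hzR : ∀ x ∈ R', z * x * z ∈ R' := fun x hx => by
    have := hRS z hzS x hx
    rwa [hzi] at this
  -- the elements inverted by `z`
  let I := {x : R' // z * (x : G) * z = (x : G)⁻¹}
  let C : Subgroup R' := (Subgroup.centralizer ({z} : Set G)).subgroupOf R'
  let f : R' → I := fun x => ⟨⟨x * (z * (x : G)⁻¹ * z), R'.mul_mem x.2 (hzR _ (R'.inv_mem x.2))⟩, by
    show z * ((x : G) * (z * (x : G)⁻¹ * z)) * z = ((x : G) * (z * (x : G)⁻¹ * z))⁻¹
    rw [mul_inv_rev, mul_inv_rev, mul_inv_rev, hzi, inv_inv]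
    calc z * ((x : G) * (z * (x : G)⁻¹ * z)) * z = z * x * z * (x : G)⁻¹ * (z * z) := by group
      _ = z * ((x : G) * z) * (x : G)⁻¹ := by rw [hz2, mul_one]; group⟩
  have hsurj : Function.Surjective f := by
    rintro ⟨⟨y, hy⟩, hyi⟩
    obtain ⟨c, hc⟩ : Odd (orderOf y) := hR'odd.of_dvd_nat (Subgroup.orderOf_dvd_natCard R' hy)
    refine ⟨⟨y ^ (c + 1), R'.pow_mem hy _⟩, Subtype.ext (Subtype.ext ?_)⟩
    show y ^ (c + 1) * (z * (y ^ (c + 1))⁻¹ * z) = y
    have h1 : z * (y ^ (c + 1))⁻¹ * z = y ^ (c + 1) := by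
      have := conj_pow (i := c + 1) (a := z) (b := y⁻¹)
      have h2 : z * y⁻¹ * z = y := by
        have := congrArg (·⁻¹) hyi
        simpa [mul_inv_rev, hzi, mul_assoc] using this
      rw [hzi, h2, inv_pow] at this
      exact this.symm
    rw [h1, ← pow_add, show c + 1 + (c + 1) = orderOf y + 1 by omega, pow_succ, pow_orderOf_eq_one, one_mul]
  have hfib : ∀ x y : R', f x = f y ↔ (QuotientGroup.mk x : R' ⧸ C) = QuotientGroup.mk y := by
    intro x y
    rw [QuotientGroup.eq]
    show f x = f y ↔ ((x : G)⁻¹ * y : G) ∈ Subgroup.centralizer ({z} : Set G)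
    rw [Subgroup.mem_centralizer_singleton_iff]
    constructor
    · intro h
      have h' : (x : G) * (z * (x : G)⁻¹ * z) = y * (z * (y : G)⁻¹ * z) := congrArg (fun w : I => ((w.1 : R') : G)) h
      calc (x : G)⁻¹ * y * z = (x : G)⁻¹ * (y * (z * (y : G)⁻¹ * z)) * (z⁻¹ * y) := by group
        _ = _ := by rw [← h', hzi]; simp [mul_assoc]; rw [← mul_assoc z z, hz2, one_mul]
    · intro h
      refine Subtype.ext (Subtype.ext ?_)
      show (x : G) * (z * (x : G)⁻¹ * z) = y * (z * (y : G)⁻¹ * z)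
      calc (x : G) * (z * (x : G)⁻¹ * z) = x * (z * ((x : G)⁻¹ * y)) * ((y : G)⁻¹ * z) := by group
        _ = x * ((x : G)⁻¹ * y * z) * ((y : G)⁻¹ * z) := by rw [h]
        _ = _ := by group
  have hI : Nat.card I = C.index := by
    rw [Subgroup.index_eq_card]
    refine (Nat.card_eq_of_bijective (Quotient.lift f fun a b h => (hfib a b).mpr (Quotient.sound h)) ⟨?_, ?_⟩).symm
    · intro a b h
      obtain ⟨a, rfl⟩ := QuotientGroup.mk_surjective a
      obtain ⟨b, rfl⟩ := QuotientGroup.mk_surjective b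
      exact (hfib a b).mp h
    · exact fun i => let ⟨a, ha⟩ := hsurj i; ⟨QuotientGroup.mk a, ha⟩
  obtain ⟨m, hmv, hm⟩ := (Nat.dvd_prime_pow hr).mp (hv ▸ C.index_dvd_card)
  -- `z` is central in `S` and lies in every nontrivial subgroup
  have hzS' : ∀ s ∈ (S : Subgroup G), s * z * s⁻¹ = z := by
    have hzpow : ∀ s ∈ (S : Subgroup G), s ≠ 1 → ∃ i : ℕ, s ^ i = z := by
      intro s hs hs1
      obtain ⟨a, ha⟩ := S.2 ⟨s, hs⟩
      obtain ⟨b, -, hb⟩ := (Nat.dvd_prime_pow Nat.prime_two).mp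
        (orderOf_dvd_of_pow_eq_one (by simpa using congrArg Subtype.val ha : s ^ 2 ^ a = 1))
      obtain ⟨b, rfl⟩ : ∃ b', b = b' + 1 := Nat.exists_eq_succ_of_ne_zero fun e => hs1
        (orderOf_eq_one_iff.mp (by rw [hb, e, pow_zero]))
      have h2 : orderOf (s ^ 2 ^ b) = 2 := by
        rw [orderOf_pow, hb, Nat.gcd_eq_right (pow_dvd_pow 2 (Nat.le_succ b)), pow_succ,
          Nat.mul_div_cancel_left _ (by positivity)]
      refine ⟨2 ^ b, ?_⟩
      haveI : Nontrivial S := nontrivial_of_ne ⟨z, hzS⟩ 1 fun e => hz1 (congrArg Subtype.val e)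
      haveI := S.2.center_nontrivial
      obtain ⟨n, hn, hcc⟩ := (S.2.to_subgroup (Subgroup.center S)).nontrivial_iff_card.mp inferInstance
      obtain ⟨u, hu2⟩ := exists_prime_orderOf_dvd_card' (G := Subgroup.center S) 2 (hcc ▸ dvd_pow_self 2 hn.ne')
      have hu' : orderOf (((u : Subgroup.center S) : S) : G) = 2 := by
        rw [Subgroup.orderOf_coe, Subgroup.orderOf_coe, hu2]
      have hall : ∀ x : S, orderOf (x : G) = 2 → (x : G) = ((u : S) : G) := fun x hx =>
        huniq _ _ (fun e => by rw [e, orderOf_one] at hx; omega) (sq_one_of_order hx)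
          (fun e => by rw [e, orderOf_one] at hu'; omega) (sq_one_of_order hu')
          (congrArg Subtype.val (Subgroup.mem_center_iff.mp u.2 x))
      exact (hall ⟨_, (S : Subgroup G).pow_mem hs _⟩ h2).trans (hall ⟨z, hzS⟩ hzo).symm
    intro s hs
    rcases eq_or_ne s 1 with rfl | hs1
    · group
    · obtain ⟨i, hi⟩ := hzpow s hs hs1
      rw [← hi, ← pow_succ', pow_succ, mul_inv_cancel_right]
  have hfree : ∀ s ∈ (S : Subgroup G), s ≠ 1 → ∀ x ∈ R', z * x * z = x⁻¹ → s * x * s⁻¹ = x → x = 1 := by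
    intro s hs hs1 x hx hxi hsx
    have hc : Commute s x := mul_inv_eq_iff_eq_mul.mp hsx
    obtain ⟨a, ha⟩ := S.2 ⟨s, hs⟩
    obtain ⟨b, -, hb⟩ := (Nat.dvd_prime_pow Nat.prime_two).mp
      (orderOf_dvd_of_pow_eq_one (by simpa using congrArg Subtype.val ha : s ^ 2 ^ a = 1))
    obtain ⟨b, rfl⟩ : ∃ b', b = b' + 1 := Nat.exists_eq_succ_of_ne_zero fun e => hs1
      (orderOf_eq_one_iff.mp (by rw [hb, e, pow_zero]))
    have h2 : (s ^ 2 ^ b) * (s ^ 2 ^ b) = 1 := by rw [← pow_add, ← two_mul, ← pow_succ', ← hb, pow_orderOf_eq_one]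
    have h1 : s ^ 2 ^ b ≠ 1 := fun e => by
      have := Nat.le_of_dvd (by positivity) (hb ▸ orderOf_dvd_of_pow_eq_one e)
      rw [pow_succ] at this
      have := Nat.one_le_two_pow (n := b)
      omega
    have hsz : s * z = z * s := mul_inv_eq_iff_eq_mul.mp (hzS' s hs)
    have hez : s ^ 2 ^ b = z := huniq _ _ h1 h2 hz1 hz2 ((show Commute s z from hsz).pow_left _).eq
    have hzx : z * x = x * z := hez ▸ (hc.pow_left _).eq
    rw [hzx, mul_assoc, hz2, mul_one] at hxi
    obtain ⟨c, hc'⟩ : Odd (orderOf x) := hR'odd.of_dvd_nat (Subgroup.orderOf_dvd_natCard R' hx)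
    have hx2 : x ^ 2 = 1 := by
      rw [pow_two]
      nth_rewrite 2 [hxi]
      exact mul_inv_cancel x
    have := pow_orderOf_eq_one x
    rwa [hc', pow_succ, pow_mul, hx2, one_pow, one_mul] at this
  -- the counting
  let X := {i : I // ((i.1 : R') : G) ≠ 1}
  have hact : ∀ (s : (S : Subgroup G)) (i : I), z * ((s : G) * ((i.1 : R') : G) * (s : G)⁻¹) * z =
      ((s : G) * ((i.1 : R') : G) * (s : G)⁻¹)⁻¹ := fun s i => by
    have h := mul_inv_eq_iff_eq_mul.mp (hzS' s s.2)
    rw [mul_inv_rev, mul_inv_rev, inv_inv, ← i.2]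
    calc z * ((s : G) * ((i.1 : R') : G) * (s : G)⁻¹) * z
        = z * s * ((i.1 : R') : G) * ((s : G)⁻¹ * z) := by group
      _ = s * z * ((i.1 : R') : G) * ((s : G)⁻¹ * z) := by rw [h]
      _ = s * z * ((i.1 : R') : G) * (z * (s : G)⁻¹) := by
        rw [show (s : G)⁻¹ * z = z * (s : G)⁻¹ from ((show Commute (s : G) z from h).inv_left).eq]
      _ = _ := by group
  letI : MulAction (S : Subgroup G) X :=
    { smul := fun s i => ⟨⟨⟨(s : G) * ((i.1.1 : R') : G) * (s : G)⁻¹, hRS s s.2 _ i.1.1.2⟩, hact s i.1⟩,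
        fun e => i.2 (conj_eq_one_iff.mp e)⟩
      one_smul := fun i => Subtype.ext (Subtype.ext (Subtype.ext (by
        show (1 : G) * ((i.1.1 : R') : G) * (1 : G)⁻¹ = _
        rw [one_mul, inv_one, mul_one])))
      mul_smul := fun s t i => Subtype.ext (Subtype.ext (Subtype.ext (by
        show (s : G) * t * ((i.1.1 : R') : G) * ((s : G) * t)⁻¹ =
          (s : G) * ((t : G) * ((i.1.1 : R') : G) * (t : G)⁻¹) * (s : G)⁻¹
        group))) }
  have hdvd := orderOf_dvd_card_free (K := (S : Subgroup G)) (X := X) fun s i h => by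
    by_contra hs
    exact i.2 (hfree s s.2 (fun e => hs (Subtype.ext e)) _ i.1.1.2 i.1.2
      (congrArg (fun w : X => ((w.1.1 : R') : G)) h))
  have h1I : z * ((1 : R') : G) * z = ((1 : R') : G)⁻¹ := by simp [hz2]
  have hX : Nat.card X + 1 = Nat.card I := by
    rw [← Finite.card_option]
    refine Nat.card_congr ((Equiv.optionCongr (Equiv.subtypeEquivRight fun i => ?_)).trans
      (Equiv.optionSubtypeNe (⟨1, h1I⟩ : I)))
    exact not_congr ⟨fun e => Subtype.ext (Subtype.ext e), fun e => by rw [e]; rfl⟩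
  have hm0 : 0 < m := by
    by_contra h
    obtain rfl : m = 0 := by omega
    rw [pow_zero, Subgroup.index_eq_one] at hm
    exact hx₀z (Subgroup.mem_centralizer_singleton_iff.mp
      (show (⟨x₀, hx₀⟩ : R') ∈ C from hm ▸ Subgroup.mem_top _)).symm
  have hk2' : 2 ^ k ∣ r ^ m - 1 := by
    rw [← hm, ← hI, ← hX, Nat.add_sub_cancel, ← hk]
    exact hdvd
  have hvN : r ^ v ∣ oddPart k := by
    have h1 := ((card_dvd_gl ρ hρ R').trans (gl_dvd hk2 hk5 hlt))
    rw [hv] at h1
    exact (Nat.Coprime.pow_right 36 (Nat.coprime_two_right.mpr (hv ▸ hR'odd))).dvd_of_dvd_mul_left h1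
  obtain rfl := full_power hk2 hk5 hr hm0 hmv hvN hk2'
  have hall : ∀ x ∈ R', z * x * z = x⁻¹ := by
    intro x hx
    have hbij : Function.Bijective (Subtype.val : I → R') :=
      (Nat.bijective_iff_injective_and_card _).mpr ⟨Subtype.val_injective, by rw [hI, hm, hv]⟩
    obtain ⟨i, hi⟩ := hbij.2 ⟨x, hx⟩
    have := i.2
    rwa [hi] at this
  have hcm : ∀ a ∈ R', ∀ b ∈ R', a * b = b * a := by
    intro a ha b hb
    have h := hall _ (R'.mul_mem ha hb)
    rw [mul_inv_rev, ← hall a ha, ← hall b hb] at h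
    have h2 : z * (a * b) * z = z * (b * a) * z := by
      rw [h]
      calc z * b * z * (z * a * z) = z * b * (z * z) * a * z := by group
        _ = _ := by rw [hz2]; group
    exact mul_left_cancel (mul_right_cancel h2)
  have hne : R' ≠ ⊥ := fun h => hx₀z (by
    rw [h, Subgroup.mem_bot] at hx₀
    rw [hx₀, mul_one, one_mul])
  have hfin := card_le_finrank ρ hρ R' (S : Subgroup G) hcm hR'odd hRS
    (fun s hs hs1 x hx h => hfree s hs hs1 x hx (hall x hx) h) hne
  rw [hk] at hfin
  have : 2 * k ≤ 2 ^ k := by interval_cases k <;> norm_num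
  omega

end CfsgLib.StrongEmbDim
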